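import Cfsg.Agent.GLElem.Matrices
import Mathlib.LinearAlgebra.Matrix.ToLin
import Mathlib.Data.ZMod.Basic
import Mathlib.FieldTheory.Finite.Basic
import Mathlib.RingTheory.IntegralDomain

/-!
Elements of primitive prime order act irreducibly; their centralisers are Singer cycles.
-/

set_option autoImplicit false
set_option linter.style.haveILetI false

namespace CfsgLib.GLElem

variable {F : Type*} [Field F] [Finite F]

theorem eq_one_of_small {V : Type*} [AddCommGroup V] [Module F V] [FiniteDimensional F V] {q n r : ℕ}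
    (hq : Nat.card F = q) (hr : r.Prime) (hrq : ¬ r ∣ q) (hi : orderOf (q : ZMod r) = n)
    (hV : Module.finrank F V < n) {T : Module.End F V} (hT : T ^ r = 1) : T = 1 := by
  classical
  haveI := Fintype.ofFinite F
  haveI : Fact r.Prime := ⟨hr⟩
  let u : (Module.End F V)ˣ := ⟨T, T ^ (r - 1), by
    rw [← pow_succ', Nat.sub_add_cancel hr.one_lt.le, hT], by
    rw [← pow_succ, Nat.sub_add_cancel hr.one_lt.le, hT]⟩
  have hu : u ^ r = 1 := Units.ext (by simpa [u] using hT)
  rcases (Nat.dvd_prime hr).mp (orderOf_dvd_of_pow_eq_one hu) with h | h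
  · exact congrArg Units.val (orderOf_eq_one_iff.mp h)
  exfalso
  set d := Module.finrank F V
  have hc : Nat.card (Module.End F V)ˣ = ∏ i : Fin d, (q ^ d - q ^ (i : ℕ)) := by
    rw [Nat.card_congr (Units.mapEquiv (LinearMap.toMatrixAlgEquiv (Module.finBasis F V)).toMulEquiv).toEquiv,
      ← hq, Nat.card_eq_fintype_card (α := F)]
    exact Matrix.card_GL_field d
  have hdvd : r ∣ Nat.card (Module.End F V)ˣ := by
    haveI : Finite (Module.End F V) :=
      Finite.of_equiv _ (LinearMap.toMatrixAlgEquiv (Module.finBasis F V)).symm.toEquiv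
    exact h ▸ orderOf_dvd_natCard u
  rw [hc, (Nat.prime_iff.mp hr).dvd_finset_prod_iff] at hdvd
  obtain ⟨i, -, hi'⟩ := hdvd
  have h1 : q ^ d - q ^ (i : ℕ) = q ^ (i : ℕ) * (q ^ (d - i) - 1) := by
    rw [Nat.mul_sub, mul_one, ← pow_add, Nat.add_sub_cancel' i.2.le]
  rw [h1] at hi'
  rcases hr.dvd_mul.mp hi' with h2 | h2
  · exact hrq (hr.dvd_of_dvd_pow h2)
  · have h3 : (q : ZMod r) ^ (d - i) = 1 := by
      have hq0 : 1 ≤ q ^ (d - i) := Nat.one_le_pow _ _ (hq ▸ Nat.card_pos)
      have := (ZMod.natCast_eq_zero_iff (q ^ (d - i) - 1) r).mpr h2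
      rw [Nat.cast_sub hq0, Nat.cast_pow, Nat.cast_one, sub_eq_zero] at this
      exact this
    have h4 := orderOf_dvd_of_pow_eq_one h3
    rw [hi] at h4
    have := Nat.le_of_dvd (by have := i.2; omega) h4
    omega

theorem irred_of_primitive {V : Type*} [AddCommGroup V] [Module F V] [FiniteDimensional F V] {q n r : ℕ}
    (hq : Nat.card F = q) (hr : r.Prime) (hrF : (r : F) ≠ 0) (hrq : ¬ r ∣ q)
    (hi : orderOf (q : ZMod r) = n) (hV : Module.finrank F V = n) {T : Module.End F V} (hT : T ^ r = 1)
    (hT1 : T ≠ 1) : Irred T := by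
  intro W hW
  by_contra hc
  push Not at hc
  obtain ⟨W', hcW, hW'⟩ := exists_invariant_isCompl hT hrF hW
  have hd := Submodule.finrank_add_eq_of_isCompl hcW
  have hW0 : 0 < Module.finrank F W := Nat.pos_of_ne_zero fun e => hc.1 (Submodule.finrank_eq_zero.mp e)
  have hW1 : Module.finrank F W < n := hV ▸ Submodule.finrank_lt hc.2
  have hpow : ∀ (U : Submodule F V) (hU : ∀ w ∈ U, T w ∈ U), (T.restrict hU) ^ r = 1 := fun U hU => by
    have hk : ∀ (k : ℕ) (w : U), (((T.restrict hU) ^ k) w : V) = (T ^ k) (w : V) := by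
      intro k
      induction k with
      | zero => intro w; simp
      | succ k ih => intro w; rw [pow_succ', pow_succ', Module.End.mul_apply, Module.End.mul_apply, ← ih]; rfl
    exact LinearMap.ext fun w => Subtype.ext (by rw [hk, hT]; rfl)
  have e1 := eq_one_of_small hq hr hrq hi hW1 (hpow W hW)
  have e2 := eq_one_of_small hq hr hrq hi (V := W') (by omega) (hpow W' hW')
  refine hT1 (LinearMap.ext fun v => ?_)
  obtain ⟨⟨a, b⟩, rfl⟩ := (Submodule.prodEquivOfIsCompl W W' hcW).surjective v
  have ha : T (a : V) = a := congrArg Subtype.val (LinearMap.congr_fun e1 a)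
  have hb : T (b : V) = b := congrArg Subtype.val (LinearMap.congr_fun e2 b)
  simp [ha, hb]

theorem singer {n r q : ℕ} (hq : Nat.card F = q) (hn : 1 ≤ n) (hr : r.Prime) (hrF : (r : F) ≠ 0)
    (hrq : ¬ r ∣ q) (hi : orderOf (q : ZMod r) = n) (x : GL (Fin n) F) (hx : orderOf x = r) :
    IsCyclic ↥(Subgroup.centralizer ({x} : Set (GL (Fin n) F))) ∧
      Nat.card ↥(Subgroup.centralizer ({x} : Set (GL (Fin n) F))) = q ^ n - 1 := by
  classical
  haveI : NeZero n := ⟨by omega⟩
  have hirr : Irred (endOf x) := irred_of_primitive hq hr hrF hrq hi (Module.finrank_fin_fun F)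
    (by rw [← endOf_pow, ← hx, pow_orderOf_eq_one, endOf_one]) fun h => by
      have : x = 1 := endOf_injective (h.trans endOf_one.symm)
      rw [this, orderOf_one] at hx
      exact hr.one_lt.ne hx
  haveI : Finite (Module.End F (Fin n → F)) :=
    Finite.of_equiv _ (LinearMap.toMatrixAlgEquiv (Pi.basisFun F (Fin n))).symm.toEquiv
  let A := Algebra.adjoin F ({endOf x} : Set (Module.End F (Fin n → F)))
  haveI : Finite A := Subtype.finite
  letI : Field A := (isField_adjoin hirr).toField
  obtain ⟨v, hv⟩ := exists_ne (0 : Fin n → F)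
  let φ : Aˣ →* GL (Fin n) F := Units.map
    ((Matrix.toLinAlgEquiv' (R := F) (n := Fin n)).symm.toAlgHom.comp A.val).toRingHom.toMonoidHom
  have hφ : ∀ a : Aˣ, endOf (φ a) = ((a : A) : Module.End F (Fin n → F)) := fun a =>
    (Matrix.toLinAlgEquiv' (R := F) (n := Fin n)).apply_symm_apply _
  have hinj : Function.Injective φ := fun a b h => Units.ext (Subtype.ext (by rw [← hφ, ← hφ, h]))
  have hrange : φ.range = Subgroup.centralizer ({x} : Set (GL (Fin n) F)) := by
    ext g
    rw [Subgroup.mem_centralizer_singleton_iff]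
    constructor
    · rintro ⟨a, rfl⟩
      refine endOf_injective ?_
      rw [endOf_mul, endOf_mul, hφ]
      exact (Algebra.commute_of_mem_adjoin_singleton_of_commute (a : A).2 rfl).symm.eq
    · intro h
      have hg : endOf g * endOf x = endOf x * endOf g := by rw [← endOf_mul, ← endOf_mul, h]
      obtain ⟨a, ha⟩ := (evalAt_bijective hirr hv).2 (endOf g v)
      have hall : endOf g = (a : Module.End F (Fin n → F)) := LinearMap.ext fun w => by
        obtain ⟨b, rfl⟩ := (evalAt_bijective hirr hv).2 w
        have hb : Commute (endOf g) (b : Module.End F (Fin n → F)) :=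
          Algebra.commute_of_mem_adjoin_singleton_of_commute b.2 hg
        have hab : ((a : Module.End F (Fin n → F)) * b) = (b : Module.End F (Fin n → F)) * a :=
          congrArg Subtype.val (mul_comm a b)
        show endOf g ((b : Module.End F (Fin n → F)) v) = (a : Module.End F (Fin n → F)) ((b : Module.End F (Fin n → F)) v)
        rw [← Module.End.mul_apply, hb.eq, Module.End.mul_apply, ← Module.End.mul_apply (a : Module.End F (Fin n → F)),
          hab, Module.End.mul_apply]
        exact congrArg _ ha.symm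
      have ha0 : a ≠ 0 := fun e => by
        have h2 := hall
        rw [e] at h2
        have h1 := congrArg LinearMap.det h2
        rw [det_endOf, ZeroMemClass.coe_zero, LinearMap.det_zero, Module.finrank_fin_fun, zero_pow (by omega)] at h1
        exact ((Matrix.isUnit_iff_isUnit_det _).mp (Units.isUnit g)).ne_zero h1
      exact ⟨Units.mk0 a ha0, endOf_injective ((hφ _).trans hall.symm)⟩
  rw [← hrange]
  refine ⟨(MonoidHom.ofInjective hinj).isCyclic.mp inferInstance, ?_⟩
  rw [← Nat.card_congr (MonoidHom.ofInjective hinj).toEquiv, Nat.card_units]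
  congr 1
  rw [Nat.card_congr (Equiv.ofBijective _ (evalAt_bijective hirr hv)), Nat.card_fun, Nat.card_fin, hq]

end CfsgLib.GLElem
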