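import Cfsg.Agent.Classical.PSLTwoFour
import Cfsg.Agent.SL2C.Unipotent
import Cfsg.Agent.SL2C.Normalizer

/-!
Class sizes of `PSL₂(q)`.
-/

set_option autoImplicit false
set_option linter.unusedSectionVars false
set_option linter.style.haveILetI false

namespace CfsgLib.PSL2Classes

open Matrix
open scoped Classical
open CfsgLib.SL2C
open CfsgLib.Linear.SmallSub (proj P2)

variable {F : Type*} [Field F] [Fintype F]

/-- If conjugates of `g` in `gZ` are `g`, the class of `proj g` has the size of the class of `g`. -/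
theorem index_proj (g : SL F)
    (h : ∀ x, proj x * proj g = proj g * proj x → x * g = g * x) :
    (Subgroup.centralizer ({proj g} : Set (P2 F))).index =
      (Subgroup.centralizer ({g} : Set (SL F))).index := by
  rw [← Subgroup.index_comap_of_surjective _ (CfsgLib.Linear.FourGroups.proj_surj (F := F))]
  congr 1
  ext x
  rw [Subgroup.mem_comap, Subgroup.mem_centralizer_singleton_iff,
    Subgroup.mem_centralizer_singleton_iff]
  exact ⟨h x, fun e => by rw [← map_mul, e, map_mul]⟩

/-- Conjugate elements have classes of the same size. -/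
theorem index_eq_of_isConj {G : Type*} [Group G] {g h : G} (e : IsConj g h) :
    (Subgroup.centralizer ({g} : Set G)).index = (Subgroup.centralizer ({h} : Set G)).index := by
  obtain ⟨c, rfl⟩ := isConj_iff.1 e
  rw [← Subgroup.index_map_equiv (Subgroup.centralizer ({g} : Set G)) (MulAut.conj c)]
  congr 1
  ext x
  show x ∈ Subgroup.map (MulAut.conj c).toMonoidHom _ ↔ _
  rw [Subgroup.mem_map_equiv, MulAut.conj_symm_apply, Subgroup.mem_centralizer_singleton_iff,
    Subgroup.mem_centralizer_singleton_iff]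
  constructor
  · intro h
    calc x * (c * g * c⁻¹) = c * (c⁻¹ * x * c * g) * c⁻¹ := by group
      _ = c * (g * (c⁻¹ * x * c)) * c⁻¹ := by rw [h]
      _ = c * g * c⁻¹ * x := by group
  · intro h
    calc c⁻¹ * x * c * g = c⁻¹ * (x * (c * g * c⁻¹)) * c := by group
      _ = c⁻¹ * (c * g * c⁻¹ * x) * c := by rw [h]
      _ = g * (c⁻¹ * x * c) := by group

theorem negOne_eq_one (h2 : (2 : F) = 0) : negOne F = 1 :=
  mt_injective (by
    rw [mt_negOne, mt_one]; ext i j
    rw [Matrix.neg_apply]; linear_combination -((1 : Matrix (Fin 2) (Fin 2) F) i j) * h2)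

/-- Commuting modulo the centre is commuting, unless the trace is zero. -/
theorem commute_of_proj {g x : SL F} (ht : (2 : F) = 0 ∨ (mt g).trace ≠ 0)
    (h : proj x * proj g = proj g * proj x) : x * g = g * x := by
  have hmem : x * g * x⁻¹ * g⁻¹ ∈ Subgroup.center (SL F) := by
    rw [← CfsgLib.Linear.FourGroups.proj_eq_one, map_mul, map_mul, map_mul, map_inv, map_inv, h]
    group
  rcases center_cases hmem with e | e
  · rwa [mul_inv_eq_one, mul_inv_eq_iff_eq_mul] at e
  · by_cases h2 : (2 : F) = 0
    · rw [negOne_eq_one h2] at e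
      rwa [mul_inv_eq_one, mul_inv_eq_iff_eq_mul] at e
    · exfalso
      rw [mul_inv_eq_iff_eq_mul] at e
      have h1 := trace_eq_of_isConj (isConj_iff.2 ⟨x, e⟩)
      rw [mt_mul, mt_negOne, neg_one_mul, Matrix.trace_neg] at h1
      have h3 : (2 : F) * (mt g).trace = 0 := by linear_combination h1
      exact (ht.resolve_left h2) ((mul_eq_zero.1 h3).resolve_left h2)

theorem sq_sub_one : Fintype.card F ^ 2 - 1 = (Fintype.card F + 1) * (Fintype.card F - 1) := by
  simpa using Nat.sq_sub_sq (Fintype.card F) 1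

theorem index_mul (g : SL F) :
    (Subgroup.centralizer ({g} : Set (SL F))).index *
      Nat.card (Subgroup.centralizer ({g} : Set (SL F))) =
      Fintype.card F * (Fintype.card F ^ 2 - 1) := by
  rw [mul_comm, Subgroup.card_mul_index, card_SL2_mul]

theorem index_dg {a : Fˣ} (ha : a * a ≠ 1) :
    (Subgroup.centralizer ({dg a} : Set (SL F))).index =
      Fintype.card F * (Fintype.card F + 1) := by
  have hc : Subgroup.centralizer ({dg a} : Set (SL F)) = splitTorus F := by
    ext g
    rw [mem_centralizer_dg ha]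
    exact ⟨fun ⟨u, hu⟩ => ⟨u, hu.symm⟩, fun ⟨u, hu⟩ => ⟨u, hu.symm⟩⟩
  have h := index_mul (dg a)
  rw [hc, card_splitTorus, sq_sub_one, ← mul_assoc] at h
  rw [hc]
  exact Nat.eq_of_mul_eq_mul_right (by have := Fintype.one_lt_card (α := F); omega) h

theorem index_ell {c : SL F} (hc : Ell c) :
    (Subgroup.centralizer ({c} : Set (SL F))).index =
      Fintype.card F * (Fintype.card F - 1) := by
  have h := index_mul c
  rw [card_tor hc, sq_sub_one, mul_comm (Fintype.card F + 1), ← mul_assoc] at h
  exact Nat.eq_of_mul_eq_mul_right (by omega) h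

theorem index_bor {e : Fˣ} (he : e * e = 1) {b : F} (hb : b ≠ 0) :
    (Subgroup.centralizer ({bor e b} : Set (SL F))).index * (sgn F).card =
      Fintype.card F ^ 2 - 1 := by
  have h := index_mul (bor e b)
  rw [natCard_centralizer_bor he hb] at h
  refine Nat.eq_of_mul_eq_mul_left (Fintype.card_pos (α := F)) ?_
  rw [← h]; ring

theorem trace_bor_ne_zero (h2 : (2 : F) ≠ 0) {e : Fˣ} (he : e * e = 1) (b : F) :
    (mt (bor e b)).trace ≠ 0 := by
  rw [trace_mt_bor, sgn_coe_mul he, ← two_mul]
  exact mul_ne_zero h2 e.ne_zero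

theorem card_P2_mul (hodd : Odd (Fintype.card F)) :
    2 * Nat.card (P2 F) = Fintype.card F * (Fintype.card F ^ 2 - 1) := by
  rw [← card_SL2_mul, ← CfsgLib.Linear.gcd_mul_card_PSL, Fintype.card_fin,
    Nat.card_eq_fintype_card (α := F)]
  obtain ⟨k, hk⟩ := hodd
  rw [Nat.gcd_eq_left (by omega : 2 ∣ Fintype.card F - 1)]

theorem index_involution (hodd : Odd (Fintype.card F)) {z : P2 F} (hz : z * z = 1) (hz1 : z ≠ 1) :
    2 * (Subgroup.centralizer ({z} : Set (P2 F))).index =
      if Fintype.card F % 4 = 1 then Fintype.card F * (Fintype.card F + 1)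
      else Fintype.card F * (Fintype.card F - 1) := by
  obtain ⟨x, U, m, hx, hx1, -, -, -, hm, -, hC, -, -⟩ :=
    CfsgLib.Linear.FourGroups.centralizer_shape hodd
  rw [index_eq_of_isConj (CfsgLib.Linear.FourGroups.involutions_conj hodd hz hz1 hx hx1)]
  have h := card_P2_mul hodd
  rw [← Subgroup.card_mul_index (Subgroup.centralizer ({x} : Set (P2 F))), hC, hm, sq_sub_one] at h
  have := Fintype.one_lt_card (α := F)
  split_ifs at h ⊢ with hq
  · refine Nat.eq_of_mul_eq_mul_right (show 0 < Fintype.card F - 1 by omega) ?_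
    rw [mul_assoc, mul_comm (Subgroup.index _), h]; ring
  · refine Nat.eq_of_mul_eq_mul_right (show 0 < Fintype.card F + 1 by omega) ?_
    rw [mul_assoc, mul_comm (Subgroup.index _), h]; ring

theorem pow_four_of_trace_zero {g : SL F} (h : (mt g).trace = 0) : g ^ 4 = 1 := by
  rw [pow_succ, pow_succ, pow_two, CfsgLib.Linear.FourGroups.sq_of_trace_zero h, mul_assoc,
    CfsgLib.Linear.FourGroups.sq_of_trace_zero h]
  exact mul_self_eq_one_of_center negOne_mem_center

theorem exists_split (hodd : Odd (Fintype.card F)) (h7 : 7 ≤ Fintype.card F) :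
    ∃ a : Fˣ, a * a ≠ 1 ∧ (mt (dg a)).trace ≠ 0 := by
  obtain ⟨a, ha⟩ := IsCyclic.exists_generator (α := Fˣ)
  have hord : orderOf a = Fintype.card F - 1 := by
    rw [orderOf_eq_card_of_forall_mem_zpowers ha, Nat.card_eq_fintype_card, Fintype.card_units]
  refine ⟨a, fun h => ?_, fun h => ?_⟩
  · have := Nat.le_of_dvd (by norm_num) (orderOf_dvd_of_pow_eq_one (by rw [pow_two, h] : a ^ 2 = 1))
    omega
  · have hinj : Function.Injective (dg : Fˣ →* SL F) := fun u v e => (bor_inj e).1
    have h4 : a ^ 4 = 1 := hinj (by rw [map_pow, map_one]; exact pow_four_of_trace_zero h)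
    have := Nat.le_of_dvd (by norm_num) (orderOf_dvd_of_pow_eq_one h4)
    omega

theorem exists_ell_trace (hodd : Odd (Fintype.card F)) (h7 : 7 ≤ Fintype.card F) :
    ∃ c : SL F, Ell c ∧ (mt c).trace ≠ 0 := by
  obtain ⟨c, hc⟩ := exists_ell (F := F)
  obtain ⟨⟨y, hy⟩, hgen⟩ := (isCyclic_tor hc).exists_generator
  have hord : orderOf y = Fintype.card F + 1 := by
    rw [← card_tor hc, ← orderOf_eq_card_of_forall_mem_zpowers hgen, Subgroup.orderOf_mk]
  refine ⟨y, ell_of_mem_torReg hc (mem_torReg.2 ⟨hy, fun h => ?_⟩), fun h => ?_⟩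
  · have := Nat.le_of_dvd (by norm_num)
      (orderOf_dvd_of_pow_eq_one (by rw [pow_two]; exact mul_self_eq_one_of_center h : y ^ 2 = 1))
    omega
  · have := Nat.le_of_dvd (by norm_num) (orderOf_dvd_of_pow_eq_one (pow_four_of_trace_zero h))
    omega

/-- Class sizes for even `q`. -/
theorem range_even (h2 : 2 ∣ Fintype.card F) (h4 : 4 ≤ Fintype.card F) :
    Set.range (fun g : P2 F => (Subgroup.centralizer ({g} : Set (P2 F))).index) =
      {1, Fintype.card F * (Fintype.card F - 1), Fintype.card F ^ 2 - 1,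
        Fintype.card F * (Fintype.card F + 1)} := by
  obtain ⟨p, hpc⟩ := CharP.exists F
  haveI := hpc
  obtain ⟨n, hp, hq⟩ := FiniteField.card F p
  have : p = 2 := ((Nat.prime_dvd_prime_iff_eq Nat.prime_two hp).mp
    (Nat.prime_two.dvd_of_dvd_pow (hq ▸ h2))).symm
  subst this
  have h20 : (2 : F) = 0 := by exact_mod_cast CharP.cast_eq_zero F 2
  have hs1 : (sgn F).card = 1 := by rw [sgn_eq_singleton, Finset.card_singleton]
  have key : ∀ g : SL F, (Subgroup.centralizer ({proj g} : Set (P2 F))).index =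
      (Subgroup.centralizer ({g} : Set (SL F))).index :=
    fun g => index_proj g fun x => commute_of_proj (Or.inl h20)
  apply Set.Subset.antisymm
  · rintro _ ⟨y, rfl⟩
    obtain ⟨g, rfl⟩ := CfsgLib.Linear.FourGroups.proj_surj y
    simp only [key, Set.mem_insert_iff, Set.mem_singleton_iff]
    rcases cases4 g with h | ⟨a, ha, h⟩ | ⟨e, b, he, hb, h⟩ | h
    · exact Or.inl (Subgroup.index_eq_one.2 (by
        rw [Subgroup.centralizer_eq_top_iff_subset, Set.singleton_subset_iff]; exact h))
    · rw [← index_eq_of_isConj h, index_dg ha]; simp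
    · have := index_bor he hb
      rw [hs1, mul_one] at this
      rw [← index_eq_of_isConj h, this]; simp
    · rw [index_ell h]; simp
  · rintro v (rfl | rfl | rfl | rfl)
    · exact ⟨1, Subgroup.index_eq_one.2 (by
        rw [Subgroup.centralizer_eq_top_iff_subset, Set.singleton_subset_iff]
        exact one_mem _)⟩
    · obtain ⟨c, hc⟩ := exists_ell (F := F)
      exact ⟨proj c, (key c).trans (index_ell hc)⟩
    · refine ⟨proj (bor 1 1), (key _).trans ?_⟩
      simpa [hs1] using index_bor (one_mul 1) (one_ne_zero : (1 : F) ≠ 0)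
    · obtain ⟨a, ha⟩ : ∃ a : Fˣ, a * a ≠ 1 := by
        by_contra h
        push Not at h
        have := Finset.card_le_card (fun e _ => mem_sgn.2 (h e) : (Finset.univ : Finset Fˣ) ⊆ sgn F)
        rw [Finset.card_univ, Fintype.card_units, hs1] at this
        omega
      exact ⟨proj (dg a), (key _).trans (index_dg ha)⟩

/-- Class sizes for odd `q`. -/
theorem range_odd (hodd : Odd (Fintype.card F)) (h7 : 7 ≤ Fintype.card F) :
    Set.range (fun g : P2 F => (Subgroup.centralizer ({g} : Set (P2 F))).index) =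
      {1, (Fintype.card F ^ 2 - 1) / 2,
        (if Fintype.card F % 4 = 1 then Fintype.card F * (Fintype.card F + 1)
          else Fintype.card F * (Fintype.card F - 1)) / 2,
        Fintype.card F * (Fintype.card F - 1), Fintype.card F * (Fintype.card F + 1)} := by
  have h2 : (2 : F) ≠ 0 := two_ne_zero_of_odd hodd
  have key : ∀ g : SL F, (mt g).trace ≠ 0 →
      (Subgroup.centralizer ({proj g} : Set (P2 F))).index =
        (Subgroup.centralizer ({g} : Set (SL F))).index :=
    fun g hg => index_proj g fun x => commute_of_proj (Or.inr hg)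
  have hbor : ∀ e : Fˣ, e * e = 1 → ∀ b : F, b ≠ 0 →
      (Subgroup.centralizer ({bor e b} : Set (SL F))).index = (Fintype.card F ^ 2 - 1) / 2 := by
    intro e he b hb
    rw [← index_bor he hb, card_sgn_odd hodd, Nat.mul_div_cancel _ two_pos]
  apply Set.Subset.antisymm
  · rintro _ ⟨y, rfl⟩
    obtain ⟨g, rfl⟩ := CfsgLib.Linear.FourGroups.proj_surj y
    simp only [Set.mem_insert_iff, Set.mem_singleton_iff]
    by_cases ht : (mt g).trace = 0
    · obtain ⟨h1, h1'⟩ := (CfsgLib.Linear.FourGroups.proj_involution_iff hodd g).2 ht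
      rw [← index_involution hodd h1 h1', Nat.mul_div_cancel_left _ two_pos]; simp
    rw [key g ht]
    rcases cases4 g with h | ⟨a, ha, h⟩ | ⟨e, b, he, hb, h⟩ | h
    · exact Or.inl (Subgroup.index_eq_one.2 (by
        rw [Subgroup.centralizer_eq_top_iff_subset, Set.singleton_subset_iff]; exact h))
    · rw [← index_eq_of_isConj h, index_dg ha]; simp
    · rw [← index_eq_of_isConj h, hbor e he b hb]; simp
    · rw [index_ell h]; simp
  · rintro v (rfl | rfl | rfl | rfl | rfl)
    · exact ⟨1, Subgroup.index_eq_one.2 (by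
        rw [Subgroup.centralizer_eq_top_iff_subset, Set.singleton_subset_iff]
        exact one_mem _)⟩
    · exact ⟨proj (bor 1 1), (key _ (trace_bor_ne_zero h2 (one_mul 1) 1)).trans
        (hbor 1 (one_mul 1) 1 one_ne_zero)⟩
    · obtain ⟨x, U, m, hx, hx1, -⟩ := CfsgLib.Linear.FourGroups.centralizer_shape hodd
      refine ⟨x, ?_⟩
      rw [← index_involution hodd hx hx1, Nat.mul_div_cancel_left _ two_pos]
    · obtain ⟨c, hc, ht⟩ := exists_ell_trace hodd h7
      exact ⟨proj c, (key c ht).trans (index_ell hc)⟩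
    · obtain ⟨a, ha, ht⟩ := exists_split hodd h7
      exact ⟨proj (dg a), (key _ ht).trans (index_dg ha)⟩

end CfsgLib.PSL2Classes
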