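import Mathlib.LinearAlgebra.Projection
import Mathlib.LinearAlgebra.Determinant
import Mathlib.FieldTheory.Finite.GaloisField
import Mathlib.RingTheory.Norm.Defs
import Mathlib.LinearAlgebra.FiniteDimensional.Basic
import Mathlib.Algebra.CharP.Lemmas
import Mathlib.RingTheory.Adjoin.Basic
import Mathlib.Algebra.CharP.Algebra

/-!
Semisimple linear maps over finite fields: invariant complements, the field of an irreducible map,
centralisers with surjective determinant.
-/

set_option autoImplicit false
set_option linter.style.haveILetI false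
set_option linter.unusedSectionVars false

namespace CfsgLib.GLElem

variable {F : Type*} [Field F] [Finite F] {V : Type*} [AddCommGroup V] [Module F V] [FiniteDimensional F V]

/-- No proper nonzero invariant subspace. -/
def Irred (T : Module.End F V) : Prop :=
  ∀ W : Submodule F V, (∀ w ∈ W, T w ∈ W) → W = ⊥ ∨ W = ⊤

theorem pow_stable {T : Module.End F V} {W : Submodule F V} (hW : ∀ w ∈ W, T w ∈ W) :
    ∀ (k : ℕ), ∀ w ∈ W, (T ^ k) w ∈ W := by
  intro k
  induction k with
  | zero => intro w hw; simpa using hw
  | succ k ih => intro w hw; rw [pow_succ', Module.End.mul_apply]; exact hW _ (ih w hw)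

/-- Averaged projection onto an invariant subspace. -/
theorem exists_invariant_isCompl {T : Module.End F V} {r : ℕ} (hT : T ^ r = 1) (hr : (r : F) ≠ 0)
    {W : Submodule F V} (hW : ∀ w ∈ W, T w ∈ W) :
    ∃ W' : Submodule F V, IsCompl W W' ∧ ∀ w ∈ W', T w ∈ W' := by
  obtain ⟨C, hC⟩ := W.exists_isCompl
  let p₀ : V →ₗ[F] V := W.subtype ∘ₗ W.projectionOnto C hC
  have hp₀ : ∀ w ∈ W, p₀ w = w := fun w hw => by
    show ((W.projectionOnto C hC w : W) : V) = w
    rw [show W.projectionOnto C hC w = ⟨w, hw⟩ from Submodule.projectionOnto_apply_left hC ⟨w, hw⟩]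
  have hp₀W : ∀ v, p₀ v ∈ W := fun v => (W.projectionOnto C hC v).2
  let f : ℕ → Module.End F V := fun i => T ^ i * p₀ * T ^ (r - i)
  let P : Module.End F V := (r : F)⁻¹ • ∑ i ∈ Finset.range r, f i
  have hfs : ∀ i, i < r → T * f i = f (i + 1) * T := fun i hi => by
    simp only [f, mul_assoc, ← pow_succ, show r - (i + 1) + 1 = r - i by omega]
    simp only [← mul_assoc, ← pow_succ']
  have hPT : T * P = P * T := by
    simp only [P, mul_smul_comm, smul_mul_assoc, Finset.mul_sum, Finset.sum_mul]
    congr 1
    rw [Finset.sum_congr rfl fun i hi => hfs i (Finset.mem_range.mp hi)]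
    rcases r with _ | r
    · simp
    · rw [Finset.sum_range_succ' (fun i => f i * T), Finset.sum_range_succ (fun i => f (i + 1) * T)]
      congr 1
      simp [f, mul_assoc, hT]
  have hPW : ∀ v, P v ∈ W := fun v => by
    simp only [P, LinearMap.smul_apply, LinearMap.sum_apply]
    exact W.smul_mem _ (W.sum_mem fun i _ => pow_stable hW i _ (hp₀W _))
  have hPid : ∀ w ∈ W, P w = w := fun w hw => by
    simp only [P, LinearMap.smul_apply, LinearMap.sum_apply]
    rw [Finset.sum_congr rfl (g := fun _ => w) fun i hi => ?_, Finset.sum_const, Finset.card_range,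
      ← Nat.cast_smul_eq_nsmul F, smul_smul, inv_mul_cancel₀ hr, one_smul]
    show (T ^ i) (p₀ ((T ^ (r - i)) w)) = w
    rw [hp₀ _ (pow_stable hW _ w hw), ← Module.End.mul_apply, ← pow_add,
      show i + (r - i) = r by have := Finset.mem_range.mp hi; omega, hT, Module.End.one_apply]
  refine ⟨LinearMap.ker P, ⟨?_, ?_⟩, fun w hw => ?_⟩
  · rw [Submodule.disjoint_def]
    intro x hx hx'
    rw [← hPid x hx]
    exact hx'
  · rw [codisjoint_iff, Submodule.eq_top_iff']
    intro v
    rw [← add_sub_cancel (P v) v]
    refine Submodule.add_mem_sup (hPW v) ?_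
    rw [LinearMap.mem_ker, map_sub, hPid _ (hPW v), sub_self]
  · rw [LinearMap.mem_ker] at hw ⊢
    rw [← Module.End.mul_apply, ← hPT, Module.End.mul_apply, hw, map_zero]

/-- The algebra generated by an irreducible map acts simply transitively. -/
theorem evalAt_bijective {T : Module.End F V} (hT : Irred T) {v : V} (hv : v ≠ 0) :
    Function.Bijective fun a : Algebra.adjoin F ({T} : Set (Module.End F V)) => (a : Module.End F V) v := by
  have hcomm : ∀ a : Algebra.adjoin F ({T} : Set (Module.End F V)), Commute (a : Module.End F V) T := by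
    rintro ⟨a, ha⟩
    exact (Algebra.commute_of_mem_adjoin_singleton_of_commute ha rfl).symm
  have hzero : ∀ a : Algebra.adjoin F ({T} : Set (Module.End F V)), (a : Module.End F V) v = 0 →
      (a : Module.End F V) = 0 := fun a ha => by
    rcases hT (LinearMap.ker (a : Module.End F V)) (fun w hw => by
      rw [LinearMap.mem_ker] at hw ⊢
      rw [← Module.End.mul_apply, (hcomm a).eq, Module.End.mul_apply, hw, map_zero]) with h | h
    · exact absurd (h ▸ (LinearMap.mem_ker.mpr ha) : v ∈ (⊥ : Submodule F V)) (by simpa using hv)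
    · exact LinearMap.ker_eq_top.mp h
  refine ⟨fun a b h => Subtype.ext (sub_eq_zero.mp (hzero (a - b) ?_)), fun w => ?_⟩
  · show ((a : Module.End F V) - (b : Module.End F V)) v = 0
    rw [LinearMap.sub_apply, sub_eq_zero]; exact h
  let ev : Algebra.adjoin F ({T} : Set (Module.End F V)) →ₗ[F] V :=
    (LinearMap.applyₗ v) ∘ₗ (Algebra.adjoin F ({T} : Set (Module.End F V))).val.toLinearMap
  rcases hT (LinearMap.range ev) (fun x ⟨a, ha⟩ => ⟨⟨T, Algebra.self_mem_adjoin_singleton F T⟩ * a, by
    rw [← ha]; rfl⟩) with h | h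
  · exact absurd (h ▸ ⟨1, rfl⟩ : v ∈ (⊥ : Submodule F V)) (by simpa using hv)
  · obtain ⟨a, ha⟩ := (h ▸ Submodule.mem_top : w ∈ LinearMap.range ev)
    exact ⟨a, ha⟩

theorem isField_adjoin [Nontrivial V] {T : Module.End F V} (hT : Irred T) :
    IsField (Algebra.adjoin F ({T} : Set (Module.End F V))) := by
  haveI : Finite V := Module.finite_of_finite F
  obtain ⟨v, hv⟩ := exists_ne (0 : V)
  have hb := evalAt_bijective hT hv
  haveI : Finite (Algebra.adjoin F ({T} : Set (Module.End F V))) := Finite.of_injective _ hb.1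
  letI : CommRing (Algebra.adjoin F ({T} : Set (Module.End F V))) :=
    Algebra.adjoinCommRingOfComm F (by rintro a rfl b rfl; rfl)
  haveI : Nontrivial (Algebra.adjoin F ({T} : Set (Module.End F V))) := hb.2.nontrivial
  haveI : NoZeroDivisors (Algebra.adjoin F ({T} : Set (Module.End F V))) := ⟨fun {a b} h => by
    by_contra hc
    push Not at hc
    refine hc.1 (hb.1 ?_)
    have h0 : (b : Module.End F V) v ≠ 0 := fun e => hc.2 (hb.1 (by simpa using e))
    have h1 : (a : Module.End F V) ((b : Module.End F V) v) = 0 := by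
      rw [← Module.End.mul_apply, ← MulMemClass.coe_mul, h]; simp
    have h2 := (evalAt_bijective hT h0).1 (a₁ := a) (a₂ := 0) (by simpa using h1)
    simp [h2]⟩
  haveI : IsDomain (Algebra.adjoin F ({T} : Set (Module.End F V))) := NoZeroDivisors.to_isDomain _
  exact Finite.isField_of_domain _

/-- Determinants of the field of an irreducible map are all nonzero scalars. -/
theorem exists_det_irred [Nontrivial V] {T : Module.End F V} (hT : Irred T) (c : F) :
    ∃ S : Module.End F V, Commute S T ∧ LinearMap.det S = c := by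
  haveI : Finite V := Module.finite_of_finite F
  obtain ⟨v, hv⟩ := exists_ne (0 : V)
  have hb := evalAt_bijective hT hv
  haveI : Finite (Algebra.adjoin F ({T} : Set (Module.End F V))) := Finite.of_injective _ hb.1
  letI : Field (Algebra.adjoin F ({T} : Set (Module.End F V))) := (isField_adjoin hT).toField
  let e : Algebra.adjoin F ({T} : Set (Module.End F V)) ≃ₗ[F] V :=
    LinearEquiv.ofBijective ((LinearMap.applyₗ v) ∘ₗ (Algebra.adjoin F ({T} : Set (Module.End F V))).val.toLinearMap) hb
  obtain ⟨a, ha⟩ := FiniteField.norm_surjective F (Algebra.adjoin F ({T} : Set (Module.End F V))) c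
  refine ⟨(a : Module.End F V), (Algebra.commute_of_mem_adjoin_singleton_of_commute a.2 rfl).symm, ?_⟩
  rw [← ha, Algebra.norm_apply, ← LinearMap.det_conj _ e]
  congr 1
  refine LinearMap.ext fun x => ?_
  show (a : Module.End F V) x = e (a * e.symm x)
  conv_lhs => rw [← e.apply_symm_apply x]
  rfl

/-- A map of order prime to the characteristic commutes with maps of every determinant. -/
theorem exists_det_commute [Nontrivial V] {T : Module.End F V} {r : ℕ} (hT : T ^ r = 1)
    (hr : (r : F) ≠ 0) (c : F) : ∃ S : Module.End F V, Commute S T ∧ LinearMap.det S = c := by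
  classical
  have hex : ∃ d, ∃ W : Submodule F V, (∀ w ∈ W, T w ∈ W) ∧ W ≠ ⊥ ∧ Module.finrank F W = d :=
    ⟨_, ⊤, fun _ _ => trivial, top_ne_bot, rfl⟩
  obtain ⟨W, hW, hW0, hWd⟩ := Nat.find_spec hex
  obtain ⟨W', hc, hW'⟩ := exists_invariant_isCompl hT hr hW
  haveI : Nontrivial W := Submodule.nontrivial_iff_ne_bot.mpr hW0
  have hirr : Irred (T.restrict hW) := fun U hU => by
    by_contra hc'
    push Not at hc'
    have h2 := Submodule.finrank_lt hc'.2
    have h1 := Nat.find_min' hex (m := Module.finrank F (U.map W.subtype))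
      ⟨U.map W.subtype, (by
        rintro _ ⟨u, hu, rfl⟩
        exact ⟨_, hU u hu, rfl⟩), (by
        intro e
        exact hc'.1 (Submodule.map_injective_of_injective W.subtype_injective (e.trans (Submodule.map_bot _).symm))), rfl⟩
    rw [← (W.equivSubtypeMap U).finrank_eq, ← hWd] at h1
    omega
  obtain ⟨A, hA, hdet⟩ := exists_det_irred hirr c
  let e := Submodule.prodEquivOfIsCompl W W' hc
  refine ⟨(e.toLinearMap ∘ₗ (A.prodMap LinearMap.id)) ∘ₗ e.symm.toLinearMap, ?_, ?_⟩
  · refine LinearMap.ext fun x => ?_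
    obtain ⟨⟨w, w'⟩, rfl⟩ := e.surjective x
    have hw : T (e (w, w')) = e (T.restrict hW w, T.restrict hW' w') := by
      simp [e, LinearMap.restrict_apply]
    simp only [Module.End.mul_apply, LinearMap.comp_apply, LinearEquiv.coe_coe, e.symm_apply_apply,
      LinearMap.prodMap_apply, LinearMap.id_apply, hw]
    have hcw : A (T.restrict hW w) = T.restrict hW (A w) := LinearMap.congr_fun hA.eq w
    rw [hcw]
    simp [e, LinearMap.restrict_apply]
  · rw [LinearMap.comp_assoc, LinearMap.det_conj, LinearMap.det_prodMap, hdet, LinearMap.det_id, mul_one]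

end CfsgLib.GLElem
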