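import Mathlib.LinearAlgebra.Matrix.SpecialLinearGroup
import Mathlib.GroupTheory.SemidirectProduct
import Mathlib.Algebra.Field.ZMod
import Mathlib.GroupTheory.QuotientGroup.Basic
import Mathlib.LinearAlgebra.Matrix.Trace
import Mathlib.LinearAlgebra.Matrix.Block
import Mathlib.Tactic.LinearCombination
import Mathlib.Tactic.IntervalCases
import Mathlib.Tactic.Abel

/-!
Bricks of the Kronecker quiver: `p³.2` inside `SL_{2d+1}(p)` with scalar centraliser.
-/

set_option autoImplicit false
set_option linter.style.haveILetI false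

namespace CfsgLib.KBrick

open Matrix

variable {F : Type*} [Field F] {d : ℕ}

/-- The off-diagonal block `a [I;0] + b [0;I] + c E(0,d-1)`. -/
def nil (d : ℕ) (v : Fin 3 → F) : Matrix (Fin (2 * d + 1)) (Fin (2 * d + 1)) F :=
  Matrix.of fun i j => if (j : ℕ) < d ∧ d ≤ (i : ℕ) then
    v 0 * (if (i : ℕ) = d + j then 1 else 0) + v 1 * (if (i : ℕ) = d + j + 1 then 1 else 0) +
      v 2 * (if (i : ℕ) = d ∧ (j : ℕ) + 1 = d then 1 else 0)
    else 0

theorem nil_mul_nil (v w : Fin 3 → F) : nil d v * nil d w = 0 := by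
  ext i j
  rw [Matrix.mul_apply, Matrix.zero_apply]
  refine Finset.sum_eq_zero fun k _ => ?_
  simp only [nil, Matrix.of_apply]
  split_ifs <;> first | omega | simp

theorem nil_add (v w : Fin 3 → F) : nil d (v + w) = nil d v + nil d w := by
  ext i j
  simp only [nil, Matrix.of_apply, Matrix.add_apply, Pi.add_apply]
  split_ifs <;> ring

theorem nil_smul (c : F) (v : Fin 3 → F) : nil d (c • v) = c • nil d v := by
  ext i j
  simp only [nil, Matrix.of_apply, Matrix.smul_apply, Pi.smul_apply, smul_eq_mul]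
  split_ifs <;> ring

theorem eq_zero_of_nil (hd : 2 ≤ d) {v : Fin 3 → F} (h : nil d v = 0) : v = 0 := by
  have h0 := congrFun (congrFun h ⟨d, by omega⟩) ⟨0, by omega⟩
  have h1 := congrFun (congrFun h ⟨d + 1, by omega⟩) ⟨0, by omega⟩
  have h2 := congrFun (congrFun h ⟨d, by omega⟩) ⟨d - 1, by omega⟩
  simp [nil, show 0 < d by omega, show d - 1 < d by omega, show (1 : ℕ) ≠ d by omega,
    show d ≠ d + (d - 1) by omega, show d ≠ d + (d - 1) + 1 by omega,
    show d - 1 + 1 = d by omega, show d - 1 ≠ 0 by omega] at h0 h1 h2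
  funext i
  fin_cases i <;> assumption

/-- The element `1 + N`. -/
def uni (d : ℕ) (v : Fin 3 → F) : Matrix.SpecialLinearGroup (Fin (2 * d + 1)) F :=
  ⟨1 + nil d v, by
    rw [Matrix.det_of_isLowerTriangular]
    · refine Finset.prod_eq_one fun i _ => ?_
      simp only [nil, Matrix.add_apply, Matrix.one_apply_eq, Matrix.of_apply]
      split_ifs <;> first | omega | simp
    · intro i j hij
      have hij' : (i : ℕ) < (j : ℕ) := hij
      simp only [nil, Matrix.add_apply, Matrix.of_apply]
      rw [Matrix.one_apply_ne (fun e => by simp [e] at hij')]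
      split_ifs <;> first | omega | simp⟩

theorem uni_mul (v w : Fin 3 → F) : uni d v * uni d w = uni d (v + w) :=
  Subtype.ext (show (1 + nil d v) * (1 + nil d w) = 1 + nil d (v + w) by
    rw [nil_add, add_mul, mul_add, mul_add, nil_mul_nil]; simp; abel)

theorem uni_zero : uni d (0 : Fin 3 → F) = 1 := by
  refine Subtype.ext ?_
  show 1 + nil d 0 = 1
  ext i j
  simp [nil]

/-- The diagonal element `u` on the first `d` coordinates. -/
def dia (d : ℕ) (u : F) : Matrix (Fin (2 * d + 1)) (Fin (2 * d + 1)) F :=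
  Matrix.diagonal fun i => if (i : ℕ) < d then u else 1

theorem card_filter (d : ℕ) :
    (Finset.univ.filter fun i : Fin (2 * d + 1) => (i : ℕ) < d).card = d := by
  rw [Fin.card_filter_val_lt, min_eq_right (by omega)]

theorem det_dia (u : F) : (dia d u).det = u ^ d := by
  rw [dia, Matrix.det_diagonal, Finset.prod_ite, Finset.prod_const, Finset.prod_const_one, mul_one,
    card_filter]

theorem trace_dia (u : F) : (dia d u).trace = d * u + ((d : F) + 1) := by
  have h := Finset.card_filter_add_card_filter_not (fun i : Fin (2 * d + 1) => (i : ℕ) < d)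
    (s := Finset.univ)
  rw [card_filter, Finset.card_univ, Fintype.card_fin] at h
  rw [dia, Matrix.trace_diagonal, Finset.sum_ite, Finset.sum_const, Finset.sum_const, card_filter,
    show (Finset.univ.filter fun i : Fin (2 * d + 1) => ¬ (i : ℕ) < d).card = d + 1 by omega,
    nsmul_eq_mul, nsmul_one, Nat.cast_add, Nat.cast_one]

theorem dia_conj {u : F} (hu : u * u = 1) (v : Fin 3 → F) :
    dia d u * (1 + nil d v) = (1 + nil d (u • v)) * dia d u := by
  rw [nil_smul, dia, mul_add, add_mul, mul_one, one_mul]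
  congr 1
  ext i j
  rw [Matrix.diagonal_mul, Matrix.smul_mul, Matrix.smul_apply, Matrix.mul_diagonal, smul_eq_mul]
  simp only [nil, Matrix.of_apply]
  split_ifs <;>
    first
      | omega
      | (simp; done)
      | (simp; rw [show ∀ x : F, u * (x * u) = x from fun x => by linear_combination x * hu])

/-- The shift `s ∈ {0,1}` as a coefficient vector. -/
def shiftVec (s : ℕ) : Fin 3 → F := ![if s = 0 then 1 else 0, if s = 0 then 0 else 1, 0]

theorem nil_shift (s : ℕ) (hs : s ≤ 1) (i j : Fin (2 * d + 1)) :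
    nil d (shiftVec s : Fin 3 → F) i j =
      if (j : ℕ) < d ∧ (i : ℕ) = d + j + s then 1 else 0 := by
  interval_cases s <;>
  · simp only [nil, shiftVec, Matrix.of_apply]
    simp
    split_ifs <;> first | rfl | omega

theorem mul_shift (s : ℕ) (hs : s ≤ 1) (g : Matrix (Fin (2 * d + 1)) (Fin (2 * d + 1)) F)
    (i j : Fin (2 * d + 1)) (hj : (j : ℕ) < d) :
    (g * nil d (shiftVec s : Fin 3 → F) : Matrix _ _ F) i j = g i ⟨d + j + s, by omega⟩ := by
  rw [Matrix.mul_apply, Finset.sum_eq_single ⟨d + j + s, by omega⟩]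
  · rw [nil_shift s hs]; simp [hj]
  · intro k _ hk
    rw [nil_shift s hs, if_neg (fun h => hk (Fin.ext h.2)), mul_zero]
  · simp

theorem shift_mul (s : ℕ) (hs : s ≤ 1) (g : Matrix (Fin (2 * d + 1)) (Fin (2 * d + 1)) F)
    (k j : Fin (2 * d + 1)) (hk : (k : ℕ) < d) :
    (nil d (shiftVec s : Fin 3 → F) * g : Matrix _ _ F) ⟨d + k + s, by omega⟩ j = g k j := by
  rw [Matrix.mul_apply, Finset.sum_eq_single k]
  · rw [nil_shift s hs]; simp [hk]
  · intro l _ hl
    rw [nil_shift s hs, if_neg (fun h => hl (Fin.ext (by have := h.2; simp at this; omega))),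
      zero_mul]
  · simp

theorem shift_mul_zero (s : ℕ) (hs : s ≤ 1) (g : Matrix (Fin (2 * d + 1)) (Fin (2 * d + 1)) F)
    (i j : Fin (2 * d + 1)) (hi : ∀ k < d, (i : ℕ) ≠ d + k + s) :
    (nil d (shiftVec s : Fin 3 → F) * g : Matrix _ _ F) i j = 0 := by
  rw [Matrix.mul_apply]
  refine Finset.sum_eq_zero fun k _ => ?_
  rw [nil_shift s hs, if_neg (fun h => hi _ h.1 h.2), zero_mul]

/-- The centraliser of the brick is scalar. -/
theorem eq_scalar (hd : 1 ≤ d) (g : Matrix (Fin (2 * d + 1)) (Fin (2 * d + 1)) F) {u : F} (hu : u ≠ 1)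
    (hD : g * dia d u = dia d u * g)
    (h0 : g * nil d (shiftVec 0) = nil d (shiftVec 0) * g)
    (h1 : g * nil d (shiftVec 1) = nil d (shiftVec 1) * g) :
    ∃ c : F, g = Matrix.scalar _ c := by
  -- off-diagonal blocks
  have hoff : ∀ i j : Fin (2 * d + 1), ((i : ℕ) < d ↔ ¬ (j : ℕ) < d) → g i j = 0 := by
    intro i j h
    have e := congrFun (congrFun hD i) j
    rw [dia, Matrix.mul_diagonal, Matrix.diagonal_mul] at e
    by_cases hi : (i : ℕ) < d
    · rw [if_pos hi, if_neg (h.mp hi), mul_one] at e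
      exact (mul_eq_zero.mp (show (u - 1) * g i j = 0 by linear_combination -e)).resolve_left
        (sub_ne_zero.mpr hu)
    · rw [if_neg hi, if_pos (by tauto), one_mul] at e
      exact (mul_eq_zero.mp (show (u - 1) * g i j = 0 by linear_combination e)).resolve_left
        (sub_ne_zero.mpr hu)
  let G : ℕ → ℕ → F := fun a b =>
    if h : a < 2 * d + 1 ∧ b < 2 * d + 1 then g ⟨a, h.1⟩ ⟨b, h.2⟩ else 0
  have hG : ∀ i j : Fin (2 * d + 1), g i j = G i j := fun i j => by
    simp only [G]; rw [dif_pos ⟨i.2, j.2⟩]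
  -- the two intertwining relations
  have hA : ∀ s ≤ 1, ∀ a b, a < d → b < d → G a b = G (d + a + s) (d + b + s) := by
    intro s hs a b ha hb
    have h := if hz : s = 0 then hz ▸ h0 else (show s = 1 by omega) ▸ h1
    have e := congrFun (congrFun h ⟨d + a + s, by omega⟩) ⟨b, by omega⟩
    rw [mul_shift s hs g _ _ hb, shift_mul s hs g ⟨a, by omega⟩ _ ha, hG, hG] at e
    exact e.symm
  have hlast : ∀ b < d, G (2 * d) (d + b) = 0 := by
    intro b hb
    have e := congrFun (congrFun h0 ⟨2 * d, by omega⟩) ⟨b, by omega⟩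
    rw [mul_shift 0 (by omega) g _ _ hb, shift_mul_zero 0 (by omega) g _ _
      (fun k hk => show 2 * d ≠ d + k + 0 by omega), hG] at e
    exact e
  have hfirst : ∀ b < d, G d (d + b + 1) = 0 := by
    intro b hb
    have e := congrFun (congrFun h1 ⟨d, by omega⟩) ⟨b, by omega⟩
    rw [mul_shift 1 le_rfl g _ _ hb, shift_mul_zero 1 le_rfl g _ _
      (fun k hk => show d ≠ d + k + 1 by omega), hG] at e
    exact e
  have hT : ∀ k a b, a + k ≤ d → b + k ≤ d → G (d + a) (d + b) = G (d + a + k) (d + b + k) := by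
    intro k
    induction k with
    | zero => intro a b _ _; simp
    | succ k ih =>
      intro a b ha hb
      rw [ih a b (by omega) (by omega)]
      have e := (hA 0 (by omega) (a + k) (b + k) (by omega) (by omega)).symm.trans
        (hA 1 le_rfl (a + k) (b + k) (by omega) (by omega))
      rw [show d + a + k = d + (a + k) + 0 by omega, show d + b + k = d + (b + k) + 0 by omega, e,
        show d + (a + k) + 1 = d + a + (k + 1) by omega,
        show d + (b + k) + 1 = d + b + (k + 1) by omega]
  have hB : ∀ a b, a ≤ d → b ≤ d → G (d + a) (d + b) = if a = b then G d d else 0 := by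
    intro a b ha hb
    rcases lt_trichotomy a b with h | rfl | h
    · rw [if_neg (ne_of_lt h)]
      have e := hT a 0 (b - a) (by omega) (by omega)
      rw [add_zero, show d + (b - a) + a = d + b by omega] at e
      rw [← e, show d + (b - a) = d + (b - a - 1) + 1 by omega]
      exact hfirst _ (by omega)
    · rw [if_pos rfl]
      simpa using (hT a 0 0 (by omega) (by omega)).symm
    · rw [if_neg (ne_of_gt h)]
      have e := hT (d - a) a b (by omega) (by omega)
      rw [e, show d + a + (d - a) = 2 * d by omega,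
        show d + b + (d - a) = d + (b + (d - a)) by omega]
      exact hlast _ (by omega)
  refine ⟨G d d, Matrix.ext fun i j => ?_⟩
  rw [Matrix.scalar_apply, Matrix.diagonal_apply, hG]
  by_cases hi : (i : ℕ) < d <;> by_cases hj : (j : ℕ) < d
  · rw [hA 0 (by omega) _ _ hi hj, add_zero, add_zero, hB _ _ hi.le hj.le]
    simp [Fin.ext_iff]
  · rw [← hG, hoff i j (by tauto), if_neg (fun e => hj (by rw [← e]; exact hi))]
  · rw [← hG, hoff i j (by tauto), if_neg (fun e => hi (by rw [e]; exact hj))]
  · obtain ⟨a, ha⟩ := Nat.exists_eq_add_of_le (not_lt.mp hi)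
    obtain ⟨b, hb⟩ := Nat.exists_eq_add_of_le (not_lt.mp hj)
    have := i.2; have := j.2
    rw [ha, hb, hB a b (by omega) (by omega)]
    by_cases h : a = b
    · rw [if_pos h, if_pos (Fin.ext (by omega))]
    · rw [if_neg h, if_neg (fun e => h (by have := congrArg Fin.val e; omega))]

end CfsgLib.KBrick
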