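import Mathlib.FieldTheory.IsAlgClosed.Basic
import Mathlib.LinearAlgebra.Dimension.Finite
import Mathlib.LinearAlgebra.FiniteDimensional.Lemmas
import Mathlib.LinearAlgebra.Matrix.ToLinearEquiv
import Mathlib.LinearAlgebra.Basis.VectorSpace
import Mathlib.Algebra.CharP.Frobenius
import Mathlib.Algebra.CharP.Lemmas

/-!
Lang's theorem for `GL_n`: over an algebraically closed field an injective semilinear map for
`x ↦ x^q` has a basis of fixed vectors.
-/

set_option autoImplicit false
set_option linter.style.haveILetI false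

namespace CfsgLib.Lang

open Polynomial

variable {K : Type*} [Field K] {q : ℕ}

/-- The coefficient polynomials of a would-be fixed vector. -/
noncomputable def coeffPoly (q : ℕ) (a : ℕ → K) : ℕ → Polynomial K
  | 0 => 0
  | i + 1 => coeffPoly q a i ^ q + C (a i) * X ^ q

theorem coeffPoly_degree (hq : 1 < q) (a : ℕ → K) :
    ∀ k, (coeffPoly q a k = 0 ∧ ∀ i < k, a i = 0) ∨ q ≤ (coeffPoly q a k).natDegree := by
  intro k
  induction k with
  | zero => exact Or.inl ⟨rfl, fun i h => absurd h (by omega)⟩
  | succ k ih =>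
    rcases ih with ⟨h0, hz⟩ | h
    · by_cases ha : a k = 0
      · refine Or.inl ⟨by simp [coeffPoly, h0, ha, show q ≠ 0 by omega], fun i hi => ?_⟩
        rcases Nat.lt_succ_iff_lt_or_eq.mp hi with h | h
        exacts [hz i h, h ▸ ha]
      · right
        simp [coeffPoly, h0, show q ≠ 0 by omega, natDegree_C_mul_X_pow q (a k) ha]
    · right
      have hlt : (C (a k) * X ^ q).natDegree < (coeffPoly q a k ^ q).natDegree := by
        rw [natDegree_pow]
        calc (C (a k) * X ^ q).natDegree ≤ q := natDegree_C_mul_X_pow_le _ _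
          _ < q * q := lt_mul_self (by omega)
          _ ≤ q * (coeffPoly q a k).natDegree := Nat.mul_le_mul_left _ h
      rw [coeffPoly, natDegree_add_eq_left_of_natDegree_lt hlt, natDegree_pow]
      exact Nat.le_mul_of_pos_right _ (by omega)

theorem coeffPoly_coeff_one (hq : 1 < q) (a : ℕ → K) (k : ℕ) :
    (coeffPoly q a k).coeff 0 = 0 ∧ (coeffPoly q a k).coeff 1 = 0 := by
  have hdvd : (X : Polynomial K) ^ 2 ∣ coeffPoly q a k := by
    induction k with
    | zero => exact dvd_zero _
    | succ k ih =>
      exact dvd_add (dvd_pow ih (by omega))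
        (dvd_mul_of_dvd_right (pow_dvd_pow _ (show 2 ≤ q by omega)) _)
  exact ⟨X_pow_dvd_iff.mp hdvd 0 (by omega), X_pow_dvd_iff.mp hdvd 1 (by omega)⟩

variable [IsAlgClosed K] {σ : K →+* K}

/-- The key root: a nonzero `t` with `b_k(t) = t`. -/
theorem exists_root (hq : 1 < q) (a : ℕ → K) (k : ℕ) (ha : ∃ i < k, a i ≠ 0) :
    ∃ t : K, t ≠ 0 ∧ (coeffPoly q a k).eval t = t := by
  obtain ⟨c0, c1⟩ := coeffPoly_coeff_one hq a k
  set P := coeffPoly q a k - X with hP
  have hdeg : q ≤ P.natDegree := by
    rcases coeffPoly_degree hq a k with ⟨-, h⟩ | h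
    · obtain ⟨i, hi, h'⟩ := ha; exact absurd (h i hi) h'
    · rw [hP, natDegree_sub_eq_left_of_natDegree_lt (by rw [natDegree_X]; omega)]; exact h
  have hR : (P.divX).natDegree = P.natDegree - 1 := natDegree_divX_eq_natDegree_tsub_one
  have hR0 : P.divX.degree ≠ 0 := by
    intro h
    have h' : P.divX.natDegree = 0 := natDegree_eq_of_degree_eq_some h
    omega
  obtain ⟨t, ht⟩ := IsAlgClosed.exists_root P.divX hR0
  have he : P = X * P.divX := by
    conv_lhs => rw [← X_mul_divX_add P]
    simp [hP, c0]
  refine ⟨t, fun h0 => ?_, ?_⟩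
  · rw [h0, IsRoot.def, ← coeff_zero_eq_eval_zero, coeff_divX, hP, coeff_sub, zero_add, c1,
      coeff_X_one] at ht
    simp at ht
  · have : P.eval t = 0 := by rw [he, eval_mul, IsRoot.def.mp ht, mul_zero]
    rwa [hP, eval_sub, eval_X, sub_eq_zero] at this

theorem exists_fixed (hσ : ∀ x, σ x = x ^ q) (hq : 1 < q) {V : Type*} [AddCommGroup V]
    [Module K V] [FiniteDimensional K V] (φ : V →ₛₗ[σ] V) (hφ : Function.Injective φ) {v : V}
    (hv : v ≠ 0) : ∃ w, w ≠ 0 ∧ φ w = w := by
  classical
  let e : ℕ → V := fun i => φ^[i] v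
  have hex : ∃ k, ¬ LinearIndependent K (fun i : Fin (k + 1) => e i) :=
    ⟨Module.finrank K V, fun h => by
      have := h.fintype_card_le_finrank
      simp at this⟩
  set k := Nat.find hex with hk
  have hlast : ¬ LinearIndependent K (fun i : Fin (k + 1) => e i) := Nat.find_spec hex
  have hind : LinearIndependent K (fun i : Fin k => e i) := by
    rcases Nat.eq_zero_or_pos k with h0 | h0
    · rw [h0]; exact linearIndependent_empty_type
    · have := Nat.find_min hex (show k - 1 < k by omega)
      rw [not_not, Nat.sub_add_cancel h0] at this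
      exact this
  have hmem : e k ∈ Submodule.span K (Set.range fun i : Fin k => e i) := by
    by_contra h
    exact hlast (linearIndependent_fin_succ'.mpr ⟨hind, h⟩)
  obtain ⟨c, hc⟩ := Submodule.mem_span_range_iff_exists_fun K |>.mp hmem
  let a : ℕ → K := fun i => if h : i < k then c ⟨i, h⟩ else 0
  have hc' : e k = ∑ i ∈ Finset.range k, a i • e i := by
    rw [← hc, Finset.sum_range]
    simp [a]
  have hne : ∀ i, e i ≠ 0 := by
    intro i
    induction i with
    | zero => exact hv
    | succ i ih =>
      simp only [e, Function.iterate_succ_apply']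
      exact fun h => ih (hφ (h.trans (map_zero φ).symm))
  have ha : ∃ i < k, a i ≠ 0 := by
    by_contra h
    push Not at h
    exact hne k (by rw [hc', Finset.sum_eq_zero fun i hi => by simp [h i (Finset.mem_range.mp hi)]])
  obtain ⟨t, ht0, ht⟩ := exists_root hq a k ha
  let β : ℕ → K := fun i => (coeffPoly q a i).eval t
  have hk0 : 1 ≤ k := by obtain ⟨i, hi, -⟩ := ha; omega
  refine ⟨∑ i ∈ Finset.range k, β (i + 1) • e i, fun hw => ?_, ?_⟩
  · have := Fintype.linearIndependent_iff.mp hind (fun i => β (i + 1))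
      (by rw [← hw, Finset.sum_range]) ⟨k - 1, by omega⟩
    simp only [Nat.sub_add_cancel hk0] at this
    exact ht0 (ht ▸ this)
  · have h1 : ∀ i, φ (e i) = e (i + 1) := fun i => (Function.iterate_succ_apply' φ i v).symm
    rw [map_sum]
    simp only [LinearMap.map_smulₛₗ, h1, hσ]
    have hβ : ∀ i, β (i + 1) = β i ^ q + a i * t ^ q := fun i => by simp [β, coeffPoly]
    have hβ0 : β 0 = 0 := by simp [β, coeffPoly]
    have hs := Finset.sum_range_succ' (fun i => β i ^ q • e i) k
    rw [Finset.sum_range_succ, hβ0, zero_pow (by omega), zero_smul, add_zero] at hs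
    rw [← hs, show β k = t from ht, hc', Finset.smul_sum, ← Finset.sum_add_distrib]
    refine Finset.sum_congr rfl fun i _ => ?_
    rw [hβ i, smul_smul, ← add_smul, mul_comm (t ^ q)]

theorem span_fixed (hσ : ∀ x, σ x = x ^ q) (hq : 1 < q) :
    ∀ (n : ℕ) (V : Type _) [AddCommGroup V] [Module K V] [FiniteDimensional K V]
      (φ : V →ₛₗ[σ] V), Function.Injective φ → Module.finrank K V = n →
      Submodule.span K {w | φ w = w} = ⊤ := by
  intro n
  induction n with
  | zero =>
    intro V _ _ _ φ _ hn
    haveI := (Module.finrank_zero_iff (R := K)).mp hn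
    exact Subsingleton.elim _ _
  | succ n ih =>
    intro V _ _ _ φ hφ hn
    haveI : Nontrivial V := Module.nontrivial_of_finrank_eq_succ hn
    obtain ⟨v, hv⟩ := exists_ne (0 : V)
    obtain ⟨w, hw0, hw⟩ := exists_fixed hσ hq φ hφ hv
    set L := Submodule.span K {w} with hL
    have hLc : L ≤ L.comap φ := by
      rw [hL, Submodule.span_singleton_le_iff_mem, Submodule.mem_comap, hw]
      exact Submodule.mem_span_singleton_self w
    let ψ := Submodule.mapQ L L φ hLc
    have hψ : Function.Injective ψ := by
      rw [injective_iff_map_eq_zero]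
      intro x
      obtain ⟨u, rfl⟩ := Submodule.Quotient.mk_surjective L x
      intro hu
      rw [Submodule.mapQ_apply, Submodule.Quotient.mk_eq_zero, hL,
        Submodule.mem_span_singleton] at hu
      obtain ⟨c, hc⟩ := hu
      obtain ⟨d, hd⟩ := IsAlgClosed.exists_pow_nat_eq c (show 0 < q by omega)
      rw [Submodule.Quotient.mk_eq_zero]
      exact Submodule.mem_span_singleton.mpr ⟨d, hφ (by rw [LinearMap.map_smulₛₗ, hσ, hd, hw, hc])⟩
    have hfr := Submodule.finrank_quotient_add_finrank L
    rw [hn, hL, finrank_span_singleton hw0, ← hL] at hfr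
    have hQ := ih (V ⧸ L) ψ hψ (by omega)
    have hwS : L ≤ Submodule.span K {w | φ w = w} :=
      Submodule.span_mono (by simpa using hw)
    rw [eq_top_iff]
    intro u _
    have hkey : (⊤ : Submodule K (V ⧸ L)) ≤
        (Submodule.span K {w | φ w = w}).map L.mkQ := by
      rw [← hQ, Submodule.span_le]
      intro x hx
      obtain ⟨y, rfl⟩ := Submodule.Quotient.mk_surjective L x
      rw [Set.mem_setOf_eq, Submodule.mapQ_apply, Submodule.Quotient.eq, hL,
        Submodule.mem_span_singleton] at hx
      obtain ⟨c, hc⟩ := hx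
      obtain ⟨s, hs⟩ := IsAlgClosed.exists_root (X ^ q - X + C c) (by
        have h1 : (X ^ q - X + C c : Polynomial K).natDegree = q := by
          rw [natDegree_add_C, natDegree_sub_eq_left_of_natDegree_lt] <;> simp [hq]
        intro h
        have h0 : (X ^ q - X + C c : Polynomial K).natDegree = 0 := natDegree_eq_of_degree_eq_some h
        omega)
      simp only [IsRoot.def, eval_add, eval_sub, eval_pow, eval_X, eval_C] at hs
      refine ⟨y + s • w, Submodule.subset_span ?_, ?_⟩
      · show φ (y + s • w) = y + s • w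
        rw [map_add, LinearMap.map_smulₛₗ, hσ, hw, ← sub_eq_zero]
        calc φ y + s ^ q • w - (y + s • w) = (φ y - y) + (s ^ q - s) • w := by
              rw [sub_smul]; abel
          _ = (s ^ q - s + c) • w := by rw [← hc, ← add_smul, add_comm]
          _ = 0 := by rw [hs, zero_smul]
      · rw [Submodule.mkQ_apply, Submodule.Quotient.eq, add_sub_cancel_left]
        exact Submodule.smul_mem _ _ (Submodule.mem_span_singleton_self w)
    obtain ⟨y, hy, hyu⟩ := hkey (x := Submodule.Quotient.mk u) trivial
    rw [Submodule.mkQ_apply, Submodule.Quotient.eq] at hyu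
    simpa using sub_mem hy (hwS hyu)

end CfsgLib.Lang
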