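import Cfsg.Agent.GLElem.Semisimple
import Mathlib.LinearAlgebra.Matrix.GeneralLinearGroup.Defs
import Mathlib.LinearAlgebra.Matrix.GeneralLinearGroup.Card
import Mathlib.LinearAlgebra.Transvection.Basic

/-!
Passage between matrices and linear maps; adjusting determinants.
-/

set_option autoImplicit false
set_option linter.style.haveILetI false

namespace CfsgLib.GLElem

open Matrix

variable {F : Type*} [Field F] {ι : Type*} [Fintype ι] [DecidableEq ι]

/-- The endomorphism of a matrix. -/
noncomputable def endOf (g : GL ι F) : Module.End F (ι → F) := Matrix.toLin' (g : Matrix ι ι F)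

theorem endOf_mul (g h : GL ι F) : endOf (g * h) = endOf g * endOf h := by
  simp [endOf, Matrix.toLin'_mul, Module.End.mul_eq_comp]

theorem endOf_one : endOf (1 : GL ι F) = 1 := by simp [endOf, Module.End.one_eq_id]

theorem endOf_pow (g : GL ι F) (k : ℕ) : endOf (g ^ k) = endOf g ^ k := by
  induction k with
  | zero => simp [endOf_one]
  | succ k ih => rw [pow_succ, pow_succ, endOf_mul, ih]

theorem endOf_injective : Function.Injective (endOf : GL ι F → Module.End F (ι → F)) := fun g h e =>
  Units.ext ((Matrix.toLin' (R := F)).injective e)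

theorem det_endOf (g : GL ι F) : LinearMap.det (endOf g) = (g : Matrix ι ι F).det :=
  LinearMap.det_toLin' _

theorem exists_glOf {S : Module.End F (ι → F)} (hS : LinearMap.det S ≠ 0) :
    ∃ g : GL ι F, endOf g = S :=
  ⟨Matrix.GeneralLinearGroup.mkOfDetNeZero (LinearMap.toMatrix' S) (by rwa [LinearMap.det_toMatrix']),
    Matrix.toLin'_toMatrix' S⟩

/-- The dilatation multiplying the determinant by `c`. -/
theorem exists_dilation {V : Type*} [AddCommGroup V] [Module F V] [FiniteDimensional F V]
    {w : V} (hw : w ≠ 0) (c : F) :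
    ∃ S : Module.End F V, LinearMap.det S = c ∧ ∀ x, ∃ t : F, S x = x + t • w := by
  obtain ⟨φ, hφ⟩ := Module.Projective.exists_dual_ne_zero F hw
  refine ⟨LinearMap.transvection (((c - 1) * (φ w)⁻¹) • φ) w, ?_, fun x => ⟨_, LinearMap.transvection.apply _ _ _⟩⟩
  rw [LinearMap.transvection.det, LinearMap.smul_apply, smul_eq_mul, mul_assoc, inv_mul_cancel₀ hφ]
  ring

end CfsgLib.GLElem
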