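import Mathlib.FieldTheory.Finite.Basic
import Mathlib.NumberTheory.Padics.PadicVal.Basic
import Mathlib.GroupTheory.SpecificGroups.Cyclic
import Mathlib.RingTheory.IntegralDomain

/-!
Powers in the multiplicative group of a finite field.
-/

set_option autoImplicit false
set_option linter.style.haveILetI false

namespace CfsgLib.GLElem

variable {F : Type*} [Field F] [Fintype F]

/-- An element is an `n`-th power iff it is killed by `(q-1)/gcd(n,q-1)`. -/
theorem exists_pow_eq_iff {q : ℕ} (hF : Fintype.card F = q) {n : ℕ} {a : F} (ha : a ≠ 0) :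
    (∃ c : F, c ≠ 0 ∧ c ^ n = a) ↔ a ^ ((q - 1) / Nat.gcd (q - 1) n) = 1 := by
  classical
  have hN : Nat.card Fˣ = q - 1 := by rw [Nat.card_units, Nat.card_eq_fintype_card, hF]
  have hNpos : 0 < q - 1 := hN ▸ Nat.card_pos
  set g := Nat.gcd (q - 1) n with hg
  have hgd : g ∣ q - 1 := Nat.gcd_dvd_left _ _
  have hr : (powMonoidHom n : Fˣ →* Fˣ).range = (powMonoidHom ((q - 1) / g) : Fˣ →* Fˣ).ker := by
    refine Subgroup.eq_of_le_of_card_ge ?_ ?_
    · rintro _ ⟨u, rfl⟩
      rw [MonoidHom.mem_ker, powMonoidHom_apply, powMonoidHom_apply, ← pow_mul]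
      obtain ⟨k, hk⟩ := Nat.gcd_dvd_right (q - 1) n
      rw [show n * ((q - 1) / g) = Nat.card Fˣ * k by
        conv_lhs => rw [hk, ← hg]
        rw [mul_right_comm, Nat.mul_div_cancel' hgd, hN], pow_mul, pow_card_eq_one', one_pow]
    · rw [IsCyclic.card_powMonoidHom_ker, IsCyclic.card_powMonoidHom_range, hN, ← hg,
        Nat.gcd_eq_right (Nat.div_dvd_of_dvd hgd)]
  constructor
  · rintro ⟨c, hc, rfl⟩
    have h : (Units.mk0 c hc) ^ n ∈ (powMonoidHom n : Fˣ →* Fˣ).range := ⟨_, rfl⟩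
    rw [hr, MonoidHom.mem_ker, powMonoidHom_apply] at h
    simpa using congrArg Units.val h
  · intro h
    have h1 : Units.mk0 a ha ∈ (powMonoidHom n : Fˣ →* Fˣ).range := by
      rw [hr, MonoidHom.mem_ker, powMonoidHom_apply]
      exact Units.ext (by simpa using h)
    obtain ⟨u, hu⟩ := h1
    exact ⟨u, u.ne_zero, by simpa using congrArg Units.val hu⟩

theorem padicVal_gcd {p a b : ℕ} [Fact p.Prime] (ha : a ≠ 0) (hb : b ≠ 0) :
    padicValNat p (Nat.gcd a b) = min (padicValNat p a) (padicValNat p b) := by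
  have hg : Nat.gcd a b ≠ 0 := Nat.gcd_ne_zero_left ha
  refine le_antisymm (le_min ((padicValNat_dvd_iff_le ha).mp (pow_padicValNat_dvd.trans (Nat.gcd_dvd_left a b)))
    ((padicValNat_dvd_iff_le hb).mp (pow_padicValNat_dvd.trans (Nat.gcd_dvd_right a b)))) ?_
  exact (padicValNat_dvd_iff_le hg).mp (Nat.dvd_gcd
    ((padicValNat_dvd_iff_le ha).mpr (min_le_left _ _)) ((padicValNat_dvd_iff_le hb).mpr (min_le_right _ _)))

end CfsgLib.GLElem
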