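import Mathlib.LinearAlgebra.FiniteDimensional.Lemmas
import Mathlib.LinearAlgebra.Charpoly.Basic
import Mathlib.RingTheory.Nilpotent.Basic

/-!
Regular nilpotent maps.
-/

set_option autoImplicit false
set_option linter.style.haveILetI false

namespace CfsgLib.GLElem

variable {F : Type*} [Field F] {V : Type*} [AddCommGroup V] [Module F V] [FiniteDimensional F V]

theorem finrank_ker_pow_le {N : Module.End F V} (h : Module.finrank F (LinearMap.ker N) ≤ 1) :
    ∀ d : ℕ, Module.finrank F (LinearMap.ker (N ^ d)) ≤ d := by
  intro d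
  induction d with
  | zero => simp [Module.End.one_eq_id]
  | succ d ih =>
    set f : LinearMap.ker (N ^ (d + 1)) →ₗ[F] LinearMap.ker N :=
      ((N ^ d) ∘ₗ (LinearMap.ker (N ^ (d + 1))).subtype).codRestrict (LinearMap.ker N) (fun x => by
        rw [LinearMap.mem_ker, LinearMap.comp_apply, Submodule.subtype_apply, ← Module.End.mul_apply,
          ← pow_succ']
        exact x.2)
    have h1 := f.finrank_range_add_finrank_ker
    have h2 := Submodule.finrank_le (LinearMap.range f)
    have h3 : Module.finrank F (LinearMap.ker f) ≤ Module.finrank F (LinearMap.ker (N ^ d)) := by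
      refine LinearMap.finrank_le_finrank_of_injective (f := ((LinearMap.ker (N ^ (d + 1))).subtype ∘ₗ
        (LinearMap.ker f).subtype).codRestrict (LinearMap.ker (N ^ d)) fun x => ?_) ?_
      · rw [LinearMap.mem_ker]
        exact congrArg Subtype.val (LinearMap.mem_ker.mp x.2)
      · intro a b e
        exact Subtype.ext (Subtype.ext (show ((a.1 : LinearMap.ker (N ^ (d + 1))) : V) = ((b.1 : LinearMap.ker (N ^ (d + 1))) : V) from congrArg (fun z : LinearMap.ker (N ^ d) => (z : V)) e))
    omega

/-- An invariant subspace of a regular nilpotent map is a kernel of a power. -/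
theorem eq_ker_pow {N : Module.End F V} (hN : IsNilpotent N)
    (h : Module.finrank F (LinearMap.ker N) ≤ 1) {W : Submodule F V} (hW : ∀ w ∈ W, N w ∈ W) :
    W = LinearMap.ker (N ^ Module.finrank F W) := by
  obtain ⟨k, hk⟩ := hN
  have hRk : ∀ j : ℕ, ∀ w : W, (((N.restrict hW) ^ j) w : V) = (N ^ j) (w : V) := by
    intro j
    induction j with
    | zero => intro w; simp
    | succ j ih =>
      intro w
      rw [pow_succ', pow_succ', Module.End.mul_apply, Module.End.mul_apply, ← ih]
      rfl
  have hpow : (N.restrict hW) ^ Module.finrank F W = 0 := by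
    set d := Module.finrank F W
    have h0 : (N.restrict hW) ^ (k + d) = 0 := LinearMap.ext fun w => Subtype.ext (by
      rw [hRk, add_comm, pow_add, hk, mul_zero]; rfl)
    refine LinearMap.ker_eq_top.mp ?_
    rw [← Module.End.ker_pow_eq_ker_pow_finrank_of_le (m := k + d) (by omega), h0, LinearMap.ker_zero]
  refine Submodule.eq_of_le_of_finrank_le (fun w hw => ?_) (finrank_ker_pow_le h _)
  rw [LinearMap.mem_ker, ← hRk _ ⟨w, hw⟩, hpow]
  rfl

end CfsgLib.GLElem
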