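import Cfsg.Agent.GLElem.Regular
import Cfsg.Agent.GLElem.Matrices
import Mathlib.LinearAlgebra.Eigenspace.Zero
import Mathlib.LinearAlgebra.Matrix.Rank

/-!
Regular nilpotent maps: cyclic vectors, commutant, determinants, conjugacy.
-/

set_option autoImplicit false
set_option linter.style.haveILetI false

namespace CfsgLib.GLElem

variable {F : Type*} [Field F] {V : Type*} [AddCommGroup V] [Module F V] [FiniteDimensional F V]
  {N : Module.End F V} {n : ℕ}

theorem span_powers_eq_top (hV : Module.finrank F V = n + 1) (hN : IsNilpotent N)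
    (h : Module.finrank F (LinearMap.ker N) ≤ 1) {v : V} (hv : (N ^ n) v ≠ 0) :
    Submodule.span F (Set.range fun k : ℕ => (N ^ k) v) = ⊤ := by
  set W := Submodule.span F (Set.range fun k : ℕ => (N ^ k) v) with hW
  have hWN : ∀ w ∈ W, N w ∈ W := fun w hw => by
    have : W.map N ≤ W := by
      rw [hW, Submodule.map_span, Submodule.span_le]
      rintro _ ⟨_, ⟨k, rfl⟩, rfl⟩
      exact Submodule.subset_span ⟨k + 1, by simp [pow_succ']⟩
    exact this ⟨w, hw, rfl⟩
  have hvW : v ∈ W := Submodule.subset_span ⟨0, by simp⟩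
  have hd := eq_ker_pow hN h hWN
  refine Submodule.eq_top_of_finrank_eq (le_antisymm (Submodule.finrank_le _) ?_)
  by_contra hlt
  push Not at hlt
  rw [hd, LinearMap.mem_ker] at hvW
  obtain ⟨j, hj⟩ := Nat.exists_eq_add_of_le (show Module.finrank F W ≤ n by omega)
  rw [hj, add_comm, pow_add, Module.End.mul_apply, hvW, map_zero] at hv
  exact hv rfl

theorem pow_ne_zero_of_regular (hV : Module.finrank F V = n + 1)
    (h : Module.finrank F (LinearMap.ker N) ≤ 1) : ∃ v, (N ^ n) v ≠ 0 := by
  by_contra hc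
  push Not at hc
  have h1 := finrank_ker_pow_le h n
  rw [show LinearMap.ker (N ^ n) = ⊤ from LinearMap.ker_eq_top.mpr (LinearMap.ext hc), finrank_top, hV] at h1
  omega

theorem pow_succ_eq_zero (hV : Module.finrank F V = n + 1) (hN : IsNilpotent N) : N ^ (n + 1) = 0 := by
  obtain ⟨k, hk⟩ := hN
  refine LinearMap.ker_eq_top.mp ?_
  rw [← hV, ← Module.End.ker_pow_eq_ker_pow_finrank_of_le (m := k + (n + 1)) (by omega), pow_add, hk,
    zero_mul, LinearMap.ker_zero]

theorem commute_ext {v : V} (hv : Submodule.span F (Set.range fun k : ℕ => (N ^ k) v) = ⊤)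
    {g g' : Module.End F V} (hg : Commute g N) (hg' : Commute g' N) (h : g v = g' v) : g = g' := by
  refine LinearMap.ext_on hv ?_
  rintro _ ⟨k, rfl⟩
  show g ((N ^ k) v) = g' ((N ^ k) v)
  rw [← Module.End.mul_apply, (hg.pow_right k).eq, Module.End.mul_apply, h, ← Module.End.mul_apply,
    ← (hg'.pow_right k).eq, Module.End.mul_apply]

theorem exists_commute_map {v : V} (hv : Submodule.span F (Set.range fun k : ℕ => (N ^ k) v) = ⊤)
    (w : V) : ∃ g : Module.End F V, Commute g N ∧ g v = w := by
  have hw : w ∈ Submodule.span F (Set.range fun k : ℕ => (N ^ k) v) := hv ▸ Submodule.mem_top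
  induction hw using Submodule.span_induction with
  | mem x hx => obtain ⟨k, rfl⟩ := hx; exact ⟨N ^ k, Commute.pow_self N k, rfl⟩
  | zero => exact ⟨0, Commute.zero_left N, rfl⟩
  | add x y _ _ hx hy =>
    obtain ⟨a, ha, rfl⟩ := hx
    obtain ⟨b, hb, rfl⟩ := hy
    exact ⟨a + b, ha.add_left hb, rfl⟩
  | smul c x _ hx =>
    obtain ⟨a, ha, rfl⟩ := hx
    exact ⟨c • a, ha.smul_left c, rfl⟩

theorem ker_pow_regular (hV : Module.finrank F V = n + 1) (hN : IsNilpotent N)
    (h : Module.finrank F (LinearMap.ker N) ≤ 1) : Module.finrank F (LinearMap.ker (N ^ n)) = n := by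
  refine le_antisymm (finrank_ker_pow_le h n) ?_
  have h1 := (N ^ n).finrank_range_add_finrank_ker
  have h2 : LinearMap.range (N ^ n) ≤ LinearMap.ker N := by
    rintro _ ⟨x, rfl⟩
    rw [LinearMap.mem_ker, ← Module.End.mul_apply, ← pow_succ', pow_succ_eq_zero hV hN]
    rfl
  have := Submodule.finrank_mono h2
  omega

theorem injective_iff_of_commute (hV : Module.finrank F V = n + 1) (hN : IsNilpotent N)
    (h : Module.finrank F (LinearMap.ker N) ≤ 1) {v : V} (hv : (N ^ n) v ≠ 0)
    {g : Module.End F V} (hg : Commute g N) : Function.Injective g ↔ (N ^ n) (g v) ≠ 0 := by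
  have he : (N ^ n) (g v) = g ((N ^ n) v) := by
    rw [← Module.End.mul_apply, ← (hg.pow_right n).eq, Module.End.mul_apply]
  rw [he]
  refine ⟨fun hi e => hv (hi (e.trans (map_zero g).symm)), fun hne => ?_⟩
  rw [← LinearMap.ker_eq_bot]
  have hinv : ∀ w ∈ LinearMap.ker g, N w ∈ LinearMap.ker g := fun w hw => by
    rw [LinearMap.mem_ker, ← Module.End.mul_apply, hg.eq, Module.End.mul_apply, LinearMap.mem_ker.mp hw,
      map_zero]
  by_contra hb
  have hd := eq_ker_pow hN h hinv
  have hpos : 0 < Module.finrank F (LinearMap.ker g) :=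
    Nat.pos_of_ne_zero fun e => hb (Submodule.finrank_eq_zero.mp e)
  apply hne
  have hm : (N ^ n) v ∈ LinearMap.ker g := by
    rw [hd, LinearMap.mem_ker, ← Module.End.mul_apply, ← pow_add]
    obtain ⟨j, hj⟩ := Nat.exists_eq_add_of_le (show n + 1 ≤ Module.finrank F (LinearMap.ker g) + n by omega)
    rw [hj, pow_add, pow_succ_eq_zero hV hN, zero_mul]
    rfl
  exact LinearMap.mem_ker.mp hm

/-- Automorphisms commuting with a regular nilpotent map. -/
theorem card_commutant_regular [Finite F] (hV : Module.finrank F V = n + 1) (hN : IsNilpotent N)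
    (h : Module.finrank F (LinearMap.ker N) ≤ 1) :
    Nat.card {g : Module.End F V // Commute g N ∧ Function.Injective g} =
      Nat.card F ^ (n + 1) - Nat.card F ^ n := by
  classical
  haveI : Finite V := Module.finite_of_finite F
  obtain ⟨v, hv⟩ := pow_ne_zero_of_regular hV h
  have hsp := span_powers_eq_top hV hN h hv
  let f : {g : Module.End F V // Commute g N ∧ Function.Injective g} → {w : V // ¬ w ∈ LinearMap.ker (N ^ n)} :=
    fun g => ⟨g.1 v, (injective_iff_of_commute hV hN h hv g.2.1).mp g.2.2⟩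
  have hf : Function.Bijective f := by
    refine ⟨fun a b e => Subtype.ext (commute_ext hsp a.2.1 b.2.1 (congrArg Subtype.val e)), fun w => ?_⟩
    obtain ⟨g, hg, hgv⟩ := exists_commute_map hsp w.1
    exact ⟨⟨g, hg, (injective_iff_of_commute hV hN h hv hg).mpr (by rw [hgv]; exact w.2)⟩, Subtype.ext hgv⟩
  rw [Nat.card_congr (Equiv.ofBijective f hf)]
  have h1 : Nat.card {w : V // w ∈ LinearMap.ker (N ^ n)} + Nat.card {w : V // ¬ w ∈ LinearMap.ker (N ^ n)} = Nat.card V := by
    rw [← Nat.card_sum, Nat.card_congr (Equiv.sumCompl _)]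
  rw [show Nat.card {w : V // w ∈ LinearMap.ker (N ^ n)} = Nat.card F ^ n from
    (Module.natCard_eq_pow_finrank (K := F) (V := LinearMap.ker (N ^ n))).trans (by rw [ker_pow_regular hV hN h]),
    Module.natCard_eq_pow_finrank (K := F) (V := V), hV] at h1
  omega

theorem det_commute_regular (hV : Module.finrank F V = n + 1) (hN : IsNilpotent N)
    (h : Module.finrank F (LinearMap.ker N) ≤ 1) {g : Module.End F V} (hg : Commute g N) :
    ∃ c : F, LinearMap.det g = c ^ (n + 1) := by
  classical
  obtain ⟨v, hv⟩ := pow_ne_zero_of_regular hV h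
  have hsp := span_powers_eq_top hV hN h hv
  have hz := pow_succ_eq_zero hV hN
  obtain ⟨c, y, hcy⟩ : ∃ (c : F) (y : V), g v = c • v + N y := by
    have hw : g v ∈ Submodule.span F (Set.range fun k : ℕ => (N ^ k) v) := hsp ▸ Submodule.mem_top
    generalize g v = w at hw ⊢
    induction hw using Submodule.span_induction with
    | mem x hx =>
      obtain ⟨k, rfl⟩ := hx
      rcases k with _ | k
      · exact ⟨1, 0, by simp⟩
      · exact ⟨0, (N ^ k) v, by simp [pow_succ']⟩
    | zero => exact ⟨0, 0, by simp⟩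
    | add x y _ _ hx hy =>
      obtain ⟨a, p, rfl⟩ := hx
      obtain ⟨b, q, rfl⟩ := hy
      exact ⟨a + b, p + q, by rw [map_add, add_smul]; abel⟩
    | smul r x _ hx =>
      obtain ⟨a, p, rfl⟩ := hx
      exact ⟨r * a, r • p, by rw [map_smul, smul_add, smul_smul]⟩
  obtain ⟨d, hd, hdv⟩ := exists_commute_map hsp y
  have heq : g = c • (1 : Module.End F V) + N * d :=
    commute_ext hsp hg (((Commute.one_left N).smul_left c).add_left ((Commute.refl N).mul_left hd)) (by simp [hcy, hdv])
  have hnil : IsNilpotent (N * d) := Commute.isNilpotent_mul_right hd.symm hN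
  have hnil' : IsNilpotent (-(N * d)) := hnil.neg
  have hcp := IsNilpotent.charpoly_eq_X_pow_finrank hnil'
  have he := LinearMap.eval_charpoly (-(N * d)) c
  rw [hcp, Polynomial.eval_pow, Polynomial.eval_X, hV, Algebra.algebraMap_eq_smul_one, sub_neg_eq_add, ← heq] at he
  exact ⟨c, he.symm⟩

/-- Regular nilpotent maps are conjugate. -/
theorem exists_conj_regular (hV : Module.finrank F V = n + 1) {N' : Module.End F V} (hN : IsNilpotent N)
    (h : Module.finrank F (LinearMap.ker N) ≤ 1) (hN' : IsNilpotent N')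
    (h' : Module.finrank F (LinearMap.ker N') ≤ 1) :
    ∃ e : V ≃ₗ[F] V, ∀ x, e (N x) = N' (e x) := by
  classical
  have mk : ∀ {M : Module.End F V}, IsNilpotent M → Module.finrank F (LinearMap.ker M) ≤ 1 →
      ∃ L : (Fin (n + 1) → F) ≃ₗ[F] V,
        ∀ c, M (L c) = L (fun i => if h0 : (i : ℕ) = 0 then 0 else c ⟨i - 1, by omega⟩) := by
    intro M hM hM1
    obtain ⟨v, hv⟩ := pow_ne_zero_of_regular hV hM1
    have hsp := span_powers_eq_top hV hM hM1 hv
    let L : (Fin (n + 1) → F) →ₗ[F] V := Fintype.linearCombination F (fun i : Fin (n + 1) => (M ^ (i : ℕ)) v)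
    have hs : Function.Surjective L := by
      rw [← LinearMap.range_eq_top, eq_top_iff, ← hsp, Submodule.span_le]
      rintro _ ⟨k, rfl⟩
      by_cases hk : k < n + 1
      · exact ⟨Pi.single ⟨k, hk⟩ 1, by simp [L, Fintype.linearCombination_apply_single]⟩
      · obtain ⟨j, rfl⟩ := Nat.exists_eq_add_of_le (show n + 1 ≤ k by omega)
        show (M ^ (n + 1 + j)) v ∈ LinearMap.range L
        rw [pow_add, pow_succ_eq_zero hV hM, zero_mul, LinearMap.zero_apply]
        exact Submodule.zero_mem _
    have hi : Function.Injective L :=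
      (LinearMap.injective_iff_surjective_of_finrank_eq_finrank (by rw [Module.finrank_fin_fun, hV])).mpr hs
    refine ⟨LinearEquiv.ofBijective L ⟨hi, hs⟩, fun c => ?_⟩
    show M (L c) = L _
    simp only [L, Fintype.linearCombination_apply, map_sum, map_smul]
    rw [Fin.sum_univ_succ (f := fun i : Fin (n + 1) => (if h0 : (i : ℕ) = 0 then 0 else c ⟨i - 1, by omega⟩) • (M ^ (i : ℕ)) v),
      Fin.sum_univ_castSucc]
    simp only [Fin.val_zero, ↓reduceDIte, zero_smul, zero_add, Fin.val_last]
    rw [← Module.End.mul_apply, ← pow_succ', pow_succ_eq_zero hV hM, LinearMap.zero_apply, smul_zero, add_zero]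
    refine Finset.sum_congr rfl fun i _ => ?_
    simp only [Fin.val_succ, Nat.succ_ne_zero, ↓reduceDIte, Nat.add_sub_cancel, Fin.val_castSucc,
      ← Module.End.mul_apply, ← pow_succ']
    rfl
  obtain ⟨L, hL⟩ := mk hN h
  obtain ⟨L', hL'⟩ := mk hN' h'
  refine ⟨L.symm.trans L', fun x => ?_⟩
  obtain ⟨c, rfl⟩ := L.surjective x
  simp [hL, hL']

end CfsgLib.GLElem
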