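import Cfsg.Agent.Classical.SymplecticBasic
import Cfsg.Agent.Unitary.Two
import Mathlib.LinearAlgebra.Matrix.ToLinearEquiv

/-!
Restriction of scalars from `F_{q²}` to `F_q`: groups preserving a form whose trace is alternating
and nondegenerate embed in the symplectic group of twice the dimension.
-/

set_option autoImplicit false
set_option linter.style.haveILetI false

namespace CfsgLib.RestrictScalars

open Matrix

/-- A faithful linear action preserving a nondegenerate alternating form gives an embedding in a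
symplectic matrix group. -/
theorem exists_symplectic_embedding {F W G : Type*} [Field F] [AddCommGroup W] [Module F W]
    [FiniteDimensional F W] [Group G] (ρ : G →* Module.End F W) (hρ : Function.Injective ρ)
    (B : LinearMap.BilinForm F W) (hA : B.IsAlt) (hnd : ∀ v, (∀ w, B v w = 0) → v = 0)
    (hB : ∀ g v w, B (ρ g v) (ρ g w) = B v w) (N : ℕ) (hN : Module.finrank F W = 2 * N) :
    ∃ φ : G →* Matrix.symplecticGroup (Fin N) F, Function.Injective φ := by
  classical
  obtain ⟨m, k, b, h1, h2, h3, h4⟩ := CfsgLib.Forms.exists_symplectic_basis _ W B hA rfl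
  have hk : k = 0 := by
    by_contra hk
    exact b.ne_zero (Sum.inr ⟨0, Nat.pos_of_ne_zero hk⟩) (hnd _ (h4 _))
  subst hk
  have hm : m = N := by
    have := Module.finrank_eq_card_basis b
    simp only [Fintype.card_sum, Fintype.card_fin] at this
    omega
  subst hm
  let c : Module.Basis (Fin m ⊕ Fin m) F W :=
    b.reindex ((Equiv.sumEmpty _ _).trans (Equiv.sumComm _ _))
  have hcl : ∀ i, c (Sum.inl i) = b (Sum.inl (Sum.inr i)) := fun i => by simp [c]
  have hcr : ∀ i, c (Sum.inr i) = b (Sum.inl (Sum.inl i)) := fun i => by simp [c]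
  have hll : ∀ i j, B (c (Sum.inl i)) (c (Sum.inl j)) = 0 := fun i j => by rw [hcl, hcl, h3]
  have hrr : ∀ i j, B (c (Sum.inr i)) (c (Sum.inr j)) = 0 := fun i j => by rw [hcr, hcr, h2]
  have hrl : ∀ i j, B (c (Sum.inr i)) (c (Sum.inl j)) = if i = j then 1 else 0 := fun i j => by
    rw [hcr, hcl, h1]
  have hlr : ∀ i j, B (c (Sum.inl i)) (c (Sum.inr j)) = -(if j = i then 1 else 0) := fun i j => by
    rw [← LinearMap.IsAlt.neg hA, hrl]
  have hkey : ∀ x y, B x y = CfsgLib.Symp.form (c.repr x) (c.repr y) := by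
    intro x y
    conv_lhs => rw [← c.sum_repr x, ← c.sum_repr y]
    rw [CfsgLib.Symp.form_apply, Finset.sum_sub_distrib]
    simp only [map_add, LinearMap.add_apply, map_sum, LinearMap.sum_apply, map_smul, LinearMap.smul_apply, smul_eq_mul,
      Fintype.sum_sum_type, hll, hrr, hrl, hlr, mul_zero, Finset.sum_const_zero, zero_add,
      add_zero, mul_ite, mul_one, mul_neg, Finset.sum_ite_eq, Finset.sum_ite_eq', Finset.mem_univ,
      if_true, Finset.sum_neg_distrib]
    simp [sub_eq_add_neg, add_comm, mul_comm]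
  have hmem : ∀ g, LinearMap.toMatrixAlgEquiv c (ρ g) ∈ Matrix.symplecticGroup (Fin m) F := by
    intro g
    refine CfsgLib.Symp.mem_iff_form.mpr fun u v => ?_
    obtain ⟨x, rfl⟩ := c.equivFun.surjective u
    obtain ⟨y, rfl⟩ := c.equivFun.surjective v
    have e : ∀ z, LinearMap.toMatrixAlgEquiv c (ρ g) *ᵥ c.repr z = c.repr (ρ g z) :=
      LinearMap.toMatrix_mulVec_repr c c (ρ g)
    simp only [Module.Basis.equivFun_apply]
    rw [e, e, ← hkey, ← hkey, hB]
  refine ⟨{ toFun := fun g => ⟨_, hmem g⟩
            map_one' := Subtype.ext (by simp)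
            map_mul' := fun g h => Subtype.ext (by simp) }, fun g h e => hρ ?_⟩
  exact (LinearMap.toMatrixAlgEquiv c).injective (congrArg Subtype.val e)

section trace

variable {K F : Type*} [Field K] [Finite K] [Field F] [Finite F] {q : ℕ}
  (hK : Nat.card K = q ^ 2) (hF : Nat.card F = q) (ι : F →+* K) (hι : ∀ a, ι a ^ q = ι a)

include hK hF hι in
/-- The fixed elements of `x ↦ x^q` are the subfield. -/
theorem mem_range_of_pow {x : K} (hx : x ^ q = x) : ∃ a, ι a = x := by
  classical
  haveI := Fintype.ofFinite F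
  have hq := CfsgLib.Forms.two_le_q hK
  let P : Polynomial K := Polynomial.X ^ q - Polynomial.X
  have hP : P ≠ 0 := FiniteField.X_pow_card_sub_X_ne_zero K (by omega)
  have hsub : insert x (Finset.univ.image ι) ⊆ P.roots.toFinset := by
    intro y hy
    rw [Multiset.mem_toFinset, Polynomial.mem_roots hP]
    rcases Finset.mem_insert.mp hy with rfl | hy
    · simp [P, hx]
    · obtain ⟨a, -, rfl⟩ := Finset.mem_image.mp hy
      simp [P, hι]
  by_contra hne
  push Not at hne
  have h1 := (Finset.card_le_card hsub).trans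
    ((Multiset.toFinset_card_le _).trans (Polynomial.card_roots' P))
  rw [Finset.card_insert_of_notMem (by simpa using hne),
    Finset.card_image_of_injective _ ι.injective, Finset.card_univ, ← Nat.card_eq_fintype_card, hF,
    FiniteField.X_pow_card_sub_X_natDegree_eq K (by omega)] at h1
  omega

include hK in
/-- Some `c ≠ 0` has `c^q = -c`. -/
theorem exists_skew : ∃ c : K, c ≠ 0 ∧ c ^ q = -c := by
  obtain ⟨x, hx⟩ : ∃ x : K, x ^ q ≠ x := by
    by_contra hc
    push Not at hc
    exact CfsgLib.Forms.frobQ_ne_id hK (RingHom.ext hc)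
  refine ⟨x ^ q - x, sub_ne_zero.mpr hx, ?_⟩
  rw [← CfsgLib.Forms.frobQ_apply hK, map_sub, CfsgLib.Forms.frobQ_apply hK,
    CfsgLib.Forms.frobQ_apply hK, CfsgLib.Forms.pow_q_q hK, neg_sub]

include hK hF hι in
/-- If `z` on `K^n` is additive, `F`-bilinear, trace-alternating and nondegenerate, groups preserving
it embed in `Sp_{2n}(F)`. -/
theorem embed_of_trace {n : Type*} [Fintype n] [DecidableEq n] (N : ℕ) (hN : Fintype.card n = N)
    {G : Type*} [Group G] (M : G →* Matrix n n K) (hM : Function.Injective M)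
    (z : (n → K) → (n → K) → K)
    (haddl : ∀ u u' v, z (u + u') v = z u v + z u' v)
    (haddr : ∀ u v v', z u (v + v') = z u v + z u v')
    (hsmull : ∀ (a : F) u v, z (ι a • u) v = ι a * z u v)
    (hsmulr : ∀ (a : F) u v, z u (ι a • v) = ι a * z u v)
    (hKsmul : ∀ (t : K) u v, z (t • u) v = t * z u v)
    (halt : ∀ u, z u u + z u u ^ q = 0)
    (hnd : ∀ u, (∀ v, z v u = 0) → u = 0)
    (hz : ∀ g u v, z (M g *ᵥ u) (M g *ᵥ v) = z u v) :
    ∃ φ : G →* Matrix.symplecticGroup (Fin N) F, Function.Injective φ := by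
  classical
  letI : Algebra F K := ι.toAlgebra
  haveI : FiniteDimensional F K := Module.Finite.of_finite
  have hsm : ∀ (a : F) (u : n → K), a • u = ι a • u := fun a u => by
    funext i; simp [Algebra.smul_def, RingHom.algebraMap_toAlgebra]
  have hpre : ∀ u v, ∃ a, ι a = z u v + z u v ^ q := fun u v =>
    mem_range_of_pow hK hF ι hι
      (by rw [CfsgLib.Forms.add_pow_q hK, CfsgLib.Forms.pow_q_q hK, add_comm])
  choose β hβ using hpre
  let B : LinearMap.BilinForm F (n → K) := LinearMap.mk₂ F β
    (fun u u' v => ι.injective (by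
      rw [map_add, hβ, hβ, hβ, haddl, CfsgLib.Forms.add_pow_q hK]; ring))
    (fun a u v => ι.injective (by
      rw [smul_eq_mul, map_mul, hβ, hβ, hsm, hsmull, mul_pow, hι]; ring))
    (fun u v v' => ι.injective (by
      rw [map_add, hβ, hβ, hβ, haddr, CfsgLib.Forms.add_pow_q hK]; ring))
    (fun a u v => ι.injective (by
      rw [smul_eq_mul, map_mul, hβ, hβ, hsm, hsmulr, mul_pow, hι]; ring))
  let ρ : G →* Module.End F (n → K) :=
    { toFun := fun g => (Matrix.mulVecLin (M g)).restrictScalars F
      map_one' := LinearMap.ext fun v => by simp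
      map_mul' := fun g h => LinearMap.ext fun v => by simp [Matrix.mulVec_mulVec] }
  have hfr : Module.finrank F (n → K) = 2 * N := by
    have h1 := Module.natCard_eq_pow_finrank (K := F) (V := K)
    rw [hK, hF] at h1
    rw [Module.finrank_pi_fintype, Finset.sum_const, Finset.card_univ, hN,
      ← Nat.pow_right_injective (CfsgLib.Forms.two_le_q hK) h1, smul_eq_mul, mul_comm]
  have hA : B.IsAlt := fun u => ι.injective (by simp [B, hβ, halt])
  refine exists_symplectic_embedding ρ (fun g h e => hM ?_) B hA (fun u hu => ?_)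
    (fun g u v => ι.injective (by simp [B, ρ, hβ, hz])) N hfr
  · refine Matrix.toLin'.injective (LinearMap.ext fun v => ?_)
    simpa [ρ] using LinearMap.congr_fun e v
  · obtain ⟨t, ht⟩ : ∃ t : K, t ^ q ≠ t := by
      by_contra hc
      push Not at hc
      exact CfsgLib.Forms.frobQ_ne_id hK (RingHom.ext hc)
    refine hnd u fun v => ?_
    have e1 : ∀ w, z w u + z w u ^ q = 0 := fun w => by
      rw [← hβ, show β w u = B w u from rfl, ← LinearMap.IsAlt.neg hA, hu, neg_zero, map_zero]
    have e2 := e1 (t • v)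
    rw [hKsmul, mul_pow] at e2
    have : z v u * (t - t ^ q) = 0 := by linear_combination e2 - t ^ q * e1 v
    exact (mul_eq_zero.mp this).resolve_right (sub_ne_zero.mpr (Ne.symm ht))

end trace

end CfsgLib.RestrictScalars
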