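import Cfsg.Agent.GLElem.Matrices
import Cfsg.Prelude.Def_ClassicalGeometry
import Mathlib.LinearAlgebra.Matrix.Rank

/-!
The centraliser of a transvection in the general linear group.
-/

set_option autoImplicit false
set_option linter.style.haveILetI false

namespace CfsgLib.GLElem

variable {F : Type*} [Field F]

/-- Normal coordinates for a transvection. -/
theorem exists_coords {V : Type*} [AddCommGroup V] [Module F V] [FiniteDimensional F V] {m : ℕ}
    (hV : Module.finrank F V = m + 2) (N : Module.End F V)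
    (h1 : Module.finrank F (LinearMap.range N) = 1) (h2 : ∀ v, N (N v) = 0) :
    ∃ Φ : ((F × (Fin m → F)) × F) ≃ₗ[F] V, ∀ p, N (Φ p) = Φ ((p.2, 0), 0) := by
  obtain ⟨a, ha0, hspan⟩ := finrank_eq_one_iff'.mp h1
  obtain ⟨e, he⟩ := a.2
  have hker := N.finrank_range_add_finrank_ker
  rw [h1, hV] at hker
  have haker : (a : V) ∈ LinearMap.ker N := by rw [LinearMap.mem_ker, ← he, h2]
  have hne : (a : V) ≠ 0 := fun h => ha0 (Subtype.ext h)
  obtain ⟨C, hC⟩ := (Submodule.span F {(⟨a, haker⟩ : LinearMap.ker N)}).exists_isCompl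
  have hCdim : Module.finrank F C = m := by
    have := Submodule.finrank_add_eq_of_isCompl hC
    rw [finrank_span_singleton (K := F) (v := (⟨(a : V), haker⟩ : LinearMap.ker N)) (fun h => hne (congrArg Subtype.val h))] at this
    omega
  let ι : (Fin m → F) ≃ₗ[F] C := (Module.finBasisOfFinrankEq F C hCdim).equivFun.symm
  let f : ((F × (Fin m → F)) × F) →ₗ[F] V :=
    { toFun := fun p => p.1.1 • (a : V) + ((ι p.1.2 : LinearMap.ker N) : V) + p.2 • e
      map_add' := fun p q => by
        simp only [Prod.fst_add, Prod.snd_add, add_smul, map_add, Submodule.coe_add]; abel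
      map_smul' := fun c p => by
        simp only [Prod.smul_fst, Prod.smul_snd, smul_eq_mul, map_smul, Submodule.coe_smul,
          RingHom.id_apply, smul_add, smul_smul] }
  have hNf : ∀ p, N (f p) = p.2 • (a : V) := fun p => by
    show N (p.1.1 • (a : V) + ((ι p.1.2 : LinearMap.ker N) : V) + p.2 • e) = _
    rw [map_add, map_add, map_smul, map_smul, LinearMap.mem_ker.mp haker, smul_zero,
      LinearMap.mem_ker.mp (ι p.1.2 : LinearMap.ker N).2, zero_add, zero_add, he]
  have hinj : Function.Injective f := by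
    rw [injective_iff_map_eq_zero]
    rintro ⟨⟨x, y⟩, z⟩ h
    have hz : z • (a : V) = 0 := by
      have := hNf ((x, y), z)
      rw [h, map_zero] at this
      exact this.symm
    have hz0 : z = 0 := (smul_eq_zero.mp hz).resolve_right hne
    subst hz0
    have h' : x • (a : V) + ((ι y : LinearMap.ker N) : V) = 0 := by
      have : x • (a : V) + ((ι y : LinearMap.ker N) : V) + (0 : F) • e = 0 := h
      rwa [zero_smul, add_zero] at this
    have hk : (ι y : LinearMap.ker N) = (-x) • (⟨a, haker⟩ : LinearMap.ker N) := Subtype.ext (by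
      rw [Submodule.coe_smul, neg_smul]; exact eq_neg_of_add_eq_zero_right h')
    have h0 : (ι y : LinearMap.ker N) = 0 :=
      (Submodule.disjoint_def.mp hC.disjoint) _
        (hk ▸ Submodule.smul_mem _ _ (Submodule.mem_span_singleton_self _)) (ι y).2
    have hy : y = 0 := ι.injective (Subtype.ext (h0.trans (by simp)))
    subst hy
    have hx : x • (a : V) = 0 := by simpa using h'
    rw [(smul_eq_zero.mp hx).resolve_right hne]
    rfl
  have hsurj : Function.Surjective f :=
    (LinearMap.injective_iff_surjective_of_finrank_eq_finrank (by simp [hV]; omega)).mp hinj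
  refine ⟨LinearEquiv.ofBijective f ⟨hinj, hsurj⟩, fun p => ?_⟩
  show N (f p) = f ((p.2, 0), 0)
  rw [hNf]
  show _ = p.2 • (a : V) + ((ι 0 : LinearMap.ker N) : V) + (0 : F) • e
  simp

/-- Linear automorphisms commuting with the standard transvection. -/
theorem card_commutant [Finite F] (m : ℕ) :
    Nat.card {g : ((F × (Fin m → F)) × F) ≃ₗ[F] ((F × (Fin m → F)) × F) //
      ∀ p, g ((p.2, 0), 0) = (((g p).2, 0), 0)} =
      (Nat.card F - 1) * Nat.card F * Nat.card F ^ m * Nat.card F ^ m *
        Nat.card ((Fin m → F) ≃ₗ[F] (Fin m → F)) := by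
  classical
  let mk : Fˣ × F × (Fin m → F) × ((Fin m → F) →ₗ[F] F) × ((Fin m → F) ≃ₗ[F] (Fin m → F)) →
      Module.End F ((F × (Fin m → F)) × F) := fun D =>
    { toFun := fun p => (((D.1 : F) * p.1.1 + D.2.2.2.1 p.1.2 + p.2 * D.2.1,
        D.2.2.2.2 p.1.2 + p.2 • D.2.2.1), (D.1 : F) * p.2)
      map_add' := fun p q => by
        refine Prod.ext (Prod.ext ?_ ?_) ?_ <;> simp [add_smul] <;> first | ring | abel
      map_smul' := fun c p => by
        refine Prod.ext (Prod.ext ?_ ?_) ?_ <;> simp [smul_smul] <;> ring }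
  have hmk : ∀ D, Function.Injective (mk D) := fun D => by
    rw [injective_iff_map_eq_zero]
    rintro ⟨⟨x, y⟩, z⟩ h
    have hz : (D.1 : F) * z = 0 := congrArg Prod.snd h
    have hz0 : z = 0 := (mul_eq_zero.mp hz).resolve_left D.1.ne_zero
    subst hz0
    have hy : D.2.2.2.2 y = 0 := by
      have : D.2.2.2.2 y + (0 : F) • D.2.2.1 = 0 := congrArg (fun p => p.1.2) h
      simpa using this
    have hy0 : y = 0 := D.2.2.2.2.map_eq_zero_iff.mp hy
    subst hy0
    have hx : (D.1 : F) * x + D.2.2.2.1 0 + 0 * D.2.1 = 0 := congrArg (fun p => p.1.1) h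
    simp at hx
    simp [hx]
  let f : Fˣ × F × (Fin m → F) × ((Fin m → F) →ₗ[F] F) × ((Fin m → F) ≃ₗ[F] (Fin m → F)) →
      {g : ((F × (Fin m → F)) × F) ≃ₗ[F] ((F × (Fin m → F)) × F) //
        ∀ p, g ((p.2, 0), 0) = (((g p).2, 0), 0)} := fun D =>
    ⟨LinearEquiv.ofInjectiveEndo (mk D) (hmk D), fun p => by
      show mk D ((p.2, 0), 0) = (((mk D p).2, 0), 0)
      simp [mk]⟩
  have hf : Function.Bijective f := by
    constructor
    · intro D D' h
      have hp : ∀ p, mk D p = mk D' p := fun p => LinearEquiv.congr_fun (congrArg Subtype.val h) p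
      have h1 := hp ((1, 0), 0)
      have h2 := hp ((0, 0), 1)
      simp [mk] at h1 h2
      refine Prod.ext (Units.ext h1) (Prod.ext h2.1.1 (Prod.ext h2.1.2 (Prod.ext (LinearMap.ext fun y => ?_) (LinearEquiv.ext fun y => ?_))))
      · have := congrArg (fun p => p.1.1) (hp ((0, y), 0)); simpa [mk] using this
      · have := congrArg (fun p => p.1.2) (hp ((0, y), 0)); simpa [mk] using this
    · rintro ⟨g, hg⟩
      set lam := (g ((0, 0), 1)).2 with hlam
      have ha : g ((1, 0), 0) = ((lam, 0), 0) := hg ((0, 0), 1)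
      have hl : lam ≠ 0 := fun e => by
        rw [e] at ha
        have := g.injective (ha.trans (map_zero g).symm)
        simp [Prod.ext_iff] at this
      have hy2 : ∀ y, (g ((0, y), 0)).2 = 0 := fun y => by
        have h := hg ((0, y), 0)
        rw [show (((0 : F), (0 : Fin m → F)), (0 : F)) = 0 from rfl, map_zero] at h
        exact (congrArg (fun p => p.1.1) h).symm
      let χ : (Fin m → F) →ₗ[F] F := (LinearMap.fst F F (Fin m → F)) ∘ₗ (LinearMap.fst F (F × (Fin m → F)) F) ∘ₗ
        g.toLinearMap ∘ₗ (LinearMap.inl F (F × (Fin m → F)) F) ∘ₗ (LinearMap.inr F F (Fin m → F))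
      let A : (Fin m → F) →ₗ[F] (Fin m → F) := (LinearMap.snd F F (Fin m → F)) ∘ₗ (LinearMap.fst F (F × (Fin m → F)) F) ∘ₗ
        g.toLinearMap ∘ₗ (LinearMap.inl F (F × (Fin m → F)) F) ∘ₗ (LinearMap.inr F F (Fin m → F))
      have hgy : ∀ y, g ((0, y), 0) = ((χ y, A y), 0) := fun y => Prod.ext rfl (hy2 y)
      have hA : Function.Injective A := by
        rw [injective_iff_map_eq_zero]
        intro y hy
        have h : g ((0, y), 0) = g ((χ y / lam, 0), 0) := by
          rw [hgy, hy, show (((χ y / lam, 0), 0) : (F × (Fin m → F)) × F) = (χ y / lam) • ((1, 0), 0) by simp,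
            map_smul, ha]
          simp [div_mul_cancel₀ _ hl]
        exact congrArg (fun p => p.1.2) (g.injective h)
      refine ⟨(Units.mk0 lam hl, (g ((0, 0), 1)).1.1, (g ((0, 0), 1)).1.2, χ, LinearEquiv.ofInjectiveEndo A hA),
        Subtype.ext (LinearEquiv.ext fun p => ?_)⟩
      obtain ⟨⟨x, y⟩, z⟩ := p
      have hp : (((x, y), z) : (F × (Fin m → F)) × F) = x • ((1, 0), 0) + ((0, y), 0) + z • ((0, 0), 1) := by simp
      show mk _ ((x, y), z) = g ((x, y), z)
      conv_rhs => rw [hp, map_add, map_add, map_smul, map_smul, ha, hgy]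
      refine Prod.ext (Prod.ext ?_ ?_) ?_ <;> simp [mk, mul_comm, ← hlam]
  rw [← Nat.card_congr (Equiv.ofBijective f hf)]
  simp only [Nat.card_prod, Nat.card_units, Nat.card_fun, Nat.card_fin]
  rw [Nat.card_congr (Module.Basis.constr (Pi.basisFun F (Fin m)) F (M' := F)).toEquiv.symm, Nat.card_fun,
    Nat.card_fin]
  ring

theorem card_centralizer_transvection [Finite F] {m : ℕ} (t : GL (Fin (m + 2)) F)
    (ht : Cfsg.IsTransvection (t : Matrix (Fin (m + 2)) (Fin (m + 2)) F)) :
    Nat.card ↥(Subgroup.centralizer ({t} : Set (GL (Fin (m + 2)) F))) =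
      (Nat.card F - 1) * Nat.card F * Nat.card F ^ m * Nat.card F ^ m * Nat.card (GL (Fin m) F) := by
  classical
  let N : Module.End F (Fin (m + 2) → F) := Matrix.toLin' ((t : Matrix (Fin (m + 2)) (Fin (m + 2)) F) - 1)
  have hN2 : ∀ v, N (N v) = 0 := fun v => by
    show Matrix.toLin' _ (Matrix.toLin' _ v) = 0
    rw [Matrix.toLin'_apply, Matrix.toLin'_apply, Matrix.mulVec_mulVec, ht.2, Matrix.zero_mulVec]
  obtain ⟨Φ, hΦ⟩ := exists_coords (Module.finrank_fin_fun F) N ht.1 hN2
  let E : GL (Fin (m + 2)) F ≃* ((Fin (m + 2) → F) ≃ₗ[F] (Fin (m + 2) → F)) :=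
    Matrix.GeneralLinearGroup.toLin.trans (LinearMap.GeneralLinearGroup.generalLinearEquiv F _)
  have hE : ∀ g v, E g v = (g : Matrix (Fin (m + 2)) (Fin (m + 2)) F).mulVec v := fun g v => rfl
  have h1 : Nat.card ↥(Subgroup.centralizer ({t} : Set (GL (Fin (m + 2)) F))) =
      Nat.card {g : (Fin (m + 2) → F) ≃ₗ[F] (Fin (m + 2) → F) // ∀ v, g (N v) = N (g v)} :=
    Nat.card_congr (Equiv.subtypeEquiv E.toEquiv fun g => by
      rw [Subgroup.mem_centralizer_singleton_iff]
      constructor
      · intro h v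
        show E g (Matrix.toLin' _ v) = Matrix.toLin' _ (E g v)
        rw [hE, hE, Matrix.toLin'_apply, Matrix.toLin'_apply, Matrix.mulVec_mulVec, Matrix.mulVec_mulVec,
          Matrix.mul_sub, Matrix.sub_mul, Matrix.mul_one, Matrix.one_mul, ← Units.val_mul, ← Units.val_mul, h]
      · intro h
        refine Units.ext (Matrix.toLin'.injective (LinearMap.ext fun v => ?_))
        have := h v
        change E g (Matrix.toLin' _ v) = Matrix.toLin' _ (E g v) at this
        rw [hE, hE, Matrix.toLin'_apply, Matrix.toLin'_apply, Matrix.mulVec_mulVec, Matrix.mulVec_mulVec,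
          Matrix.mul_sub, Matrix.sub_mul, Matrix.mul_one, Matrix.one_mul, ← Units.val_mul, ← Units.val_mul,
          Matrix.sub_mulVec, Matrix.sub_mulVec, sub_left_inj] at this
        rw [Matrix.toLin'_apply, Matrix.toLin'_apply]; exact this)
  have h2 : Nat.card {g : (Fin (m + 2) → F) ≃ₗ[F] (Fin (m + 2) → F) // ∀ v, g (N v) = N (g v)} =
      Nat.card {g : ((F × (Fin m → F)) × F) ≃ₗ[F] ((F × (Fin m → F)) × F) //
        ∀ p, g ((p.2, 0), 0) = (((g p).2, 0), 0)} := by
    refine Nat.card_congr (Equiv.subtypeEquiv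
      { toFun := fun g => Φ.trans (g.trans Φ.symm)
        invFun := fun g => Φ.symm.trans (g.trans Φ)
        left_inv := fun g => by ext v; simp
        right_inv := fun g => LinearEquiv.ext fun p => by simp } fun g => ?_)
    constructor
    · intro h p
      show Φ.symm (g (Φ ((p.2, 0), 0))) = (((Φ.symm (g (Φ p))).2, 0), 0)
      rw [← hΦ, h, LinearEquiv.symm_apply_eq]
      conv_lhs => rw [← Φ.apply_symm_apply (g (Φ p)), hΦ]
    · intro h v
      obtain ⟨p, rfl⟩ := Φ.surjective v
      have h' : Φ.symm (g (Φ ((p.2, 0), 0))) = (((Φ.symm (g (Φ p))).2, 0), 0) := h p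
      rw [LinearEquiv.symm_apply_eq] at h'
      rw [hΦ, h', ← hΦ, Φ.apply_symm_apply]
  rw [h1, h2, card_commutant]
  congr 1
  exact Nat.card_congr (Matrix.GeneralLinearGroup.toLin.trans
    (LinearMap.GeneralLinearGroup.generalLinearEquiv F _)).symm.toEquiv

end CfsgLib.GLElem
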