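import Cfsg.Agent.PrimeGraph.PSL2Spectrum
import Mathlib.GroupTheory.SemidirectProduct
import Mathlib.FieldTheory.Finite.GaloisField
import Mathlib.Tactic.Module

/-!
The twisted tensor square `V = M₂(F)` of `SL₂(3^α)`, `X ↦ e g X σ(g)ᵀ`, and the element orders of
`V ⋊ (PSL₂ × 2)`.
-/

set_option autoImplicit false
set_option linter.style.haveILetI false

namespace CfsgLib.TwistedTensor

open Matrix

variable {F : Type*} [Field F] [CharP F 3]

/-- The twist. -/
def sig (F : Type*) [Field F] [CharP F 3] : F →+* F :=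
  haveI := Fact.mk (Nat.prime_three)
  frobenius F 3

theorem sig_apply (x : F) : sig F x = x ^ 3 := rfl

/-- `X ↦ g X σ(g)ᵀ`. -/
def conjMap (g : Matrix (Fin 2) (Fin 2) F) (X : Matrix (Fin 2) (Fin 2) F) :
    Matrix (Fin 2) (Fin 2) F := g * X * ((sig F).mapMatrix g)ᵀ

theorem conjMap_mul (g h X : Matrix (Fin 2) (Fin 2) F) :
    conjMap (g * h) X = conjMap g (conjMap h X) := by
  simp only [conjMap, map_mul, Matrix.transpose_mul, Matrix.mul_assoc]

theorem conjMap_one (X : Matrix (Fin 2) (Fin 2) F) : conjMap 1 X = X := by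
  simp [conjMap]

theorem conjMap_add (g X Y : Matrix (Fin 2) (Fin 2) F) :
    conjMap g (X + Y) = conjMap g X + conjMap g Y := by
  simp [conjMap, Matrix.mul_add, Matrix.add_mul]

theorem conjMap_zsmul (g X : Matrix (Fin 2) (Fin 2) F) (n : ℤ) :
    conjMap g (n • X) = n • conjMap g X := by
  simp only [conjMap, Matrix.mul_smul, Matrix.smul_mul]

/-- `SL₂` acting on `V`. -/
noncomputable def slAct : Matrix.SpecialLinearGroup (Fin 2) F →*
    MulAut (Multiplicative (Matrix (Fin 2) (Fin 2) F)) where
  toFun g :=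
    { toFun := fun X => Multiplicative.ofAdd (conjMap g.1 X.toAdd)
      invFun := fun X => Multiplicative.ofAdd (conjMap (g⁻¹).1 X.toAdd)
      left_inv := fun X => by
        simp only [toAdd_ofAdd, ← conjMap_mul, ← Matrix.SpecialLinearGroup.coe_mul, inv_mul_cancel,
          Matrix.SpecialLinearGroup.coe_one, conjMap_one, ofAdd_toAdd]
      right_inv := fun X => by
        simp only [toAdd_ofAdd, ← conjMap_mul, ← Matrix.SpecialLinearGroup.coe_mul, mul_inv_cancel,
          Matrix.SpecialLinearGroup.coe_one, conjMap_one, ofAdd_toAdd]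
      map_mul' := fun X Y => by simp [conjMap_add, ofAdd_add] }
  map_one' := MulEquiv.ext fun X => by simp [conjMap_one]
  map_mul' g h := MulEquiv.ext fun X => by simp [conjMap_mul]

theorem center_le_ker : Subgroup.center (Matrix.SpecialLinearGroup (Fin 2) F) ≤ (slAct (F := F)).ker := by
  intro g hg
  obtain ⟨r, hr, hgr⟩ := Matrix.SpecialLinearGroup.mem_center_iff.mp hg
  rw [MonoidHom.mem_ker]
  refine MulEquiv.ext fun X => ?_
  show Multiplicative.ofAdd (conjMap g.1 X.toAdd) = X
  rw [← hgr, conjMap, Matrix.scalar_apply, RingHom.mapMatrix_apply,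
    Matrix.diagonal_map (map_zero _), Matrix.diagonal_transpose]
  rw [Fintype.card_fin] at hr
  have : r * sig F r = 1 := by rw [sig_apply]; linear_combination (r ^ 2 + 1) * hr
  have e : Matrix.diagonal (fun _ => r) * X.toAdd * Matrix.diagonal (fun _ => sig F r) = X.toAdd := by
    ext i j
    rw [Matrix.mul_diagonal, Matrix.diagonal_mul]
    linear_combination X.toAdd i j * this
  exact congrArg Multiplicative.ofAdd e

/-- `PSL₂` acting on `V`. -/
noncomputable def pslAct : Matrix.ProjectiveSpecialLinearGroup (Fin 2) F →*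
    MulAut (Multiplicative (Matrix (Fin 2) (Fin 2) F)) :=
  QuotientGroup.lift _ slAct center_le_ker

/-- Signs acting on `V`. -/
def signAct : ℤˣ →* MulAut (Multiplicative (Matrix (Fin 2) (Fin 2) F)) where
  toFun u :=
    { toFun := fun X => Multiplicative.ofAdd ((u : ℤ) • X.toAdd)
      invFun := fun X => Multiplicative.ofAdd ((u : ℤ) • X.toAdd)
      left_inv := fun X => by
        simp only [toAdd_ofAdd, smul_smul, ← Units.val_mul, Int.units_mul_self, Units.val_one, one_smul, ofAdd_toAdd]
      right_inv := fun X => by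
        simp only [toAdd_ofAdd, smul_smul, ← Units.val_mul, Int.units_mul_self, Units.val_one, one_smul, ofAdd_toAdd]
      map_mul' := fun X Y => by simp [smul_add, ofAdd_add] }
  map_one' := MulEquiv.ext fun X => by simp
  map_mul' u w := MulEquiv.ext fun X =>
    congrArg Multiplicative.ofAdd (mul_smul (u : ℤ) (w : ℤ) X.toAdd)

/-- `PSL₂ × 2` acting on `V`. -/
noncomputable def act : Matrix.ProjectiveSpecialLinearGroup (Fin 2) F × ℤˣ →*
    MulAut (Multiplicative (Matrix (Fin 2) (Fin 2) F)) :=
  pslAct.noncommCoprod signAct fun g u => by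
    obtain ⟨g, rfl⟩ := QuotientGroup.mk_surjective g
    refine MulEquiv.ext fun X => ?_
    show Multiplicative.ofAdd (conjMap g.1 ((u : ℤ) • X.toAdd)) =
      Multiplicative.ofAdd ((u : ℤ) • conjMap g.1 X.toAdd)
    rw [conjMap_zsmul]

theorem act_apply (g : Matrix.SpecialLinearGroup (Fin 2) F) (u : ℤˣ)
    (X : Matrix (Fin 2) (Fin 2) F) :
    act ((QuotientGroup.mk g : Matrix.ProjectiveSpecialLinearGroup (Fin 2) F), u)
      (Multiplicative.ofAdd X) = Multiplicative.ofAdd (conjMap g.1 ((u : ℤ) • X)) := rfl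

theorem cayley_hamilton (A : Matrix (Fin 2) (Fin 2) F) (h : A.det = 1) :
    A * A = A.trace • A - 1 := by
  rw [Matrix.det_fin_two] at h
  ext i j
  fin_cases i <;> fin_cases j <;> simp [Matrix.mul_apply, Fin.sum_univ_two, Matrix.trace_fin_two]
  · linear_combination -h
  · ring
  · ring
  · linear_combination -h

/-- Fixed vectors are rare. -/
theorem trace_of_fixed (hneg : ∀ x : F, x ^ 2 ≠ -1) (g : Matrix.SpecialLinearGroup (Fin 2) F)
    (u : ℤˣ) {X : Matrix (Fin 2) (Fin 2) F} (hX : X ≠ 0)
    (hfix : conjMap g.1 ((u : ℤ) • X) = X) :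
    g.1.trace = 0 ∨ (u = 1 ∧ g.1.trace ^ 2 = 1) := by
  set M := ((sig F).mapMatrix g.1)ᵀ with hM
  set N := ((sig F).mapMatrix (g⁻¹).1)ᵀ with hN
  have hMN : M * N = 1 := by
    rw [hM, hN, ← Matrix.transpose_mul, ← map_mul, ← Matrix.SpecialLinearGroup.coe_mul,
      inv_mul_cancel, Matrix.SpecialLinearGroup.coe_one, map_one, Matrix.transpose_one]
  have hNdet : N.det = 1 := by
    rw [hN, Matrix.det_transpose, ← RingHom.map_det, (g⁻¹).2, map_one]
  set e : F := ((u : ℤ) : F) with he
  have hee : e * e = 1 := by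
    rw [he, ← Int.cast_mul, ← Units.val_mul, Int.units_mul_self, Units.val_one, Int.cast_one]
  have h1 : e • (g.1 * X * M) = X := by
    rw [← Matrix.smul_mul, ← Matrix.mul_smul, he, Int.cast_smul_eq_zsmul]
    exact hfix
  have hgX : g.1 * X = e • (X * N) := by
    conv_rhs => rw [← h1]
    rw [Matrix.smul_mul, smul_smul, hee, one_smul, Matrix.mul_assoc _ M, hMN, Matrix.mul_one]
  have h2 : g.1 * g.1 * X = X * (N * N) := by
    rw [Matrix.mul_assoc, hgX, Matrix.mul_smul, ← Matrix.mul_assoc, hgX, Matrix.smul_mul, smul_smul,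
      hee, one_smul, Matrix.mul_assoc]
  have htr : N.trace = g.1.trace ^ 3 := by
    rw [hN, Matrix.trace_transpose, RingHom.mapMatrix_apply, ← AddMonoidHom.map_trace, ← sig_apply]
    congr 1
    rw [Matrix.SpecialLinearGroup.coe_inv, Matrix.adjugate_fin_two, Matrix.trace_fin_two,
      Matrix.trace_fin_two]
    simp [add_comm]
  rw [cayley_hamilton _ g.2, cayley_hamilton _ hNdet, htr] at h2
  set t := g.1.trace
  have h3 : (t * e - t ^ 3) • (X * N) = 0 := by
    simp only [Matrix.sub_mul, Matrix.mul_sub, Matrix.smul_mul, Matrix.mul_smul, Matrix.one_mul,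
      Matrix.mul_one, hgX, smul_smul, sub_left_inj] at h2
    rw [sub_smul, h2, sub_self]
  have h4 : (t ^ 3 - t * e) • X = 0 := by
    have h5 := congrArg (· * M) h3
    simp only [Matrix.smul_mul, Matrix.zero_mul, Matrix.mul_assoc,
      mul_eq_one_comm.mp hMN, Matrix.mul_one] at h5
    rw [← neg_sub, neg_smul, h5, neg_zero]
  rcases smul_eq_zero.mp h4 with h | h
  · have h' : t * (t ^ 2 - e) = 0 := by linear_combination h
    rcases mul_eq_zero.mp h' with h0 | h0
    · exact Or.inl h0
    · right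
      rcases Int.units_eq_one_or u with rfl | rfl
      · exact ⟨rfl, by simpa [he, sub_eq_zero] using h0⟩
      · exact absurd (sub_eq_zero.mp h0) (by simpa [he] using hneg t)
  · exact absurd h hX

end CfsgLib.TwistedTensor
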